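import Cfsg.Agent.Lib.Classical.SympRegGen

/-!
# Stabilisers of a standard frame in the symplectic group

The subgroup fixing the first `k` hyperbolic pairs, the stabiliser of one further basis vector,
and the small subgroups of the slim amalgam.
-/

set_option autoImplicit false

namespace CfsgLib.Classical.SympSlim

open Matrix Cfsg
open CfsgLib.Classical.SympTrans
open CfsgLib.Classical.SympRegGen (E Fv E_inl E_inr Fv_inl Fv_inr f_E f_Fv f_EE f_FF f_FE f_EF
  T_inv T_comm P app_P conj_P)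

variable {F : Type*} [Field F] {n : ℕ}

local notation "V" => (Fin n ⊕ Fin n → F)
local notation "Sp" => Matrix.symplecticGroup (Fin n) F
local notation "ω" => sympForm n F

theorem E_coe (i : Fin n) : (E (i : ℕ) : V) = Pi.single (.inl i) 1 := by rw [E, dif_pos i.2]

theorem Fv_coe (i : Fin n) : (Fv (i : ℕ) : V) = Pi.single (.inr i) 1 := by rw [Fv, dif_pos i.2]

theorem E_of_le {i : ℕ} (h : n ≤ i) : (E i : V) = 0 := by rw [E, dif_neg (by omega)]

theorem Fv_of_le {i : ℕ} (h : n ≤ i) : (Fv i : V) = 0 := by rw [Fv, dif_neg (by omega)]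

theorem app_zero' (g : Sp) : app g (0 : V) = 0 := mulVec_zero _

theorem E_ne_zero {k : ℕ} (h : k < n) : (E k : V) ≠ 0 := fun e => by
  have := congrFun e (.inl ⟨k, h⟩)
  rw [E_inl, if_pos rfl] at this
  exact one_ne_zero this

theorem eq_of_basis {g h : Sp}
    (H : ∀ i : ℕ, i < n → app g (E i : V) = app h (E i) ∧ app g (Fv i : V) = app h (Fv i)) :
    g = h := by
  refine Subtype.ext (Matrix.ext_of_mulVec_single fun j => ?_)
  rcases j with i | i
  · have := (H i i.2).1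
    rwa [E_coe] at this
  · have := (H i i.2).2
    rwa [Fv_coe] at this

/-- Fixes the hyperbolic pairs below `k`. -/
def Fix (k : ℕ) : Subgroup Sp where
  carrier := {g | ∀ i, i < k → app g (E i : V) = E i ∧ app g (Fv i : V) = Fv i}
  one_mem' := fun _ _ => ⟨app_one _, app_one _⟩
  mul_mem' := fun {a b} ha hb i hi =>
    ⟨by rw [app_mul, (hb i hi).1, (ha i hi).1], by rw [app_mul, (hb i hi).2, (ha i hi).2]⟩
  inv_mem' := fun {a} ha i hi =>
    ⟨by conv_lhs => rw [← (ha i hi).1, app_inv]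
     , by conv_lhs => rw [← (ha i hi).2, app_inv]⟩

theorem mem_Fix {k : ℕ} {g : Sp} :
    g ∈ Fix k ↔ ∀ i, i < k → app g (E i : V) = E i ∧ app g (Fv i : V) = Fv i := Iff.rfl

theorem Fix_zero : (Fix 0 : Subgroup Sp) = ⊤ :=
  eq_top_iff.2 fun _ _ i hi => absurd hi (Nat.not_lt_zero _)

theorem Fix_top {k : ℕ} (h : n ≤ k) {g : Sp} (hg : g ∈ Fix k) : g = 1 :=
  eq_of_basis fun i hi => by rw [app_one, app_one]; exact hg i (by omega)

theorem Fix_anti {j k : ℕ} (h : j ≤ k) : (Fix k : Subgroup Sp) ≤ Fix j :=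
  fun _ hg i hi => hg i (by omega)

theorem Fix_succ {k : ℕ} {g : Sp} (hg : g ∈ Fix k) (h1 : app g (E k : V) = E k)
    (h2 : app g (Fv k : V) = Fv k) : g ∈ Fix (k + 1) := fun i hi => by
  rcases Nat.lt_succ_iff_lt_or_eq.1 hi with hi | rfl
  · exact hg i hi
  · exact ⟨h1, h2⟩

theorem f_E_W {k i : ℕ} {v : V} (hv : v ∈ W k) (hi : i < k) : ω (E i) v = 0 := by
  by_cases h : i < n
  · rw [f_swap v (E i), f_E h, (hv ⟨i, h⟩ hi).2, neg_zero]
  · rw [E_of_le (not_lt.1 h), f_zero_left]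

theorem f_Fv_W {k i : ℕ} {v : V} (hv : v ∈ W k) (hi : i < k) : ω (Fv i) v = 0 := by
  by_cases h : i < n
  · rw [f_swap v (Fv i), f_Fv h, (hv ⟨i, h⟩ hi).1, neg_zero, neg_zero]
  · rw [Fv_of_le (not_lt.1 h), f_zero_left]

theorem T_mem_Fix {k : ℕ} {v : V} (hv : v ∈ W k) (c : F) : T v c ∈ Fix k := fun i hi => by
  constructor <;> rw [app_T]
  · rw [f_E_W hv hi, mul_zero, zero_smul, add_zero]
  · rw [f_Fv_W hv hi, mul_zero, zero_smul, add_zero]

theorem gen_le_Fix (k : ℕ) : gen ((W k : Submodule F V) : Set V) ≤ Fix k := by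
  refine (Subgroup.closure_le _).2 ?_
  rintro _ ⟨v, hv, c, rfl⟩
  exact T_mem_Fix hv c

theorem E_mem_W {i k : ℕ} (h : k ≤ i) : (E i : V) ∈ W k := fun j hj =>
  ⟨by rw [E_inl, if_neg (by omega)], E_inr _ _⟩

theorem Fv_mem_W {i k : ℕ} (h : k ≤ i) : (Fv i : V) ∈ W k := fun j hj =>
  ⟨Fv_inl _ _, by rw [Fv_inr, if_neg (by omega)]⟩

theorem W_mono {j k : ℕ} (h : j ≤ k) : (W k : Submodule F V) ≤ W j :=
  fun _ hx i hi => hx i (by omega)

theorem Fix_app_W {k : ℕ} {g : Sp} (hg : g ∈ Fix k) {x : V} (hx : x ∈ W k) : app g x ∈ W k := by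
  intro i hi
  constructor
  · have h := f_app g (Fv (i : ℕ)) x
    rw [(hg i hi).2, f_Fv_W hx hi, f_swap (app g x) (Fv (i : ℕ)), f_Fv i.2] at h
    simpa using h
  · have h := f_app g (E (i : ℕ)) x
    rw [(hg i hi).1, f_E_W hx hi, f_swap (app g x) (E (i : ℕ)), f_E i.2] at h
    simpa using h

theorem mem_W_succ {k : ℕ} (hk : k < n) {x : V} (hx : x ∈ W k) (h1 : x (.inl ⟨k, hk⟩) = 0)
    (h2 : x (.inr ⟨k, hk⟩) = 0) : x ∈ W (k + 1) := by
  intro i hi
  rcases Nat.lt_succ_iff_lt_or_eq.1 hi with hi | hi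
  · exact hx i hi
  · obtain rfl : i = ⟨k, hk⟩ := Fin.ext hi
    exact ⟨h1, h2⟩

theorem W_decomp {k : ℕ} (hk : k < n) {x : V} (hx : x ∈ W k) :
    ∃ δ ∈ (W (k + 1) : Submodule F V),
      x = x (.inl ⟨k, hk⟩) • E k + x (.inr ⟨k, hk⟩) • Fv k + δ := by
  refine ⟨x - (x (.inl ⟨k, hk⟩) • E k + x (.inr ⟨k, hk⟩) • Fv k),
    mem_W_succ hk ?_ ?_ ?_, by abel⟩
  · exact Submodule.sub_mem _ hx (Submodule.add_mem _ (Submodule.smul_mem _ _ (E_mem_W le_rfl))
      (Submodule.smul_mem _ _ (Fv_mem_W le_rfl)))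
  · simp [E_inl, Fv_inl]
  · simp [E_inr, Fv_inr]

theorem W_top {k : ℕ} (h : n ≤ k) {x : V} (hx : x ∈ W k) : x = 0 := by
  funext j
  rcases j with i | i
  · exact (hx i (by omega)).1
  · exact (hx i (by omega)).2

theorem lt_of_mem_W {k : ℕ} {x : V} (hx : x ∈ W k) (h0 : x ≠ 0) : k < n := by
  by_contra h
  exact h0 (W_top (not_lt.1 h) hx)

theorem Fix_le_gen (k : ℕ) : (Fix k : Subgroup Sp) ≤ gen ((W k : Submodule F V) : Set V) := by
  suffices h : ∀ d k, n ≤ k + d → (Fix k : Subgroup Sp) ≤ gen ((W k : Submodule F V) : Set V) from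
    h n k (by omega)
  intro d
  induction d with
  | zero => intro k hk g hg; rw [Fix_top (by omega) hg]; exact one_mem _
  | succ d ih =>
    intro k hk g hg
    by_cases hkn : n ≤ k
    · rw [Fix_top hkn hg]; exact one_mem _
    push Not at hkn
    have hF : app g (Fv k : V) ∈ W k := Fix_app_W hg (Fv_mem_W le_rfl)
    have hE : app g (E k : V) ∈ W k := Fix_app_W hg (E_mem_W le_rfl)
    obtain ⟨a, ha, h1, h2⟩ := exists_move_pair hF hE (Fv_mem_W (F := F) (n := n) le_rfl)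
      (E_mem_W (F := F) (n := n) le_rfl) (by rw [f_app, f_FE _ _ hkn, if_pos rfl])
      (by rw [f_FE _ _ hkn, if_pos rfl])
    have hmem : a * g ∈ Fix (k + 1) :=
      Fix_succ (mul_mem (gen_le_Fix k ha) hg) (by rw [app_mul, h2]) (by rw [app_mul, h1])
    have := gen_mono (W_mono (F := F) (n := n) (Nat.le_succ k)) (ih (k + 1) (by omega) hmem)
    simpa using mul_mem (inv_mem ha) this

/-- The vectors of `W k` orthogonal to `E k`. -/
def WP (k : ℕ) : Set V := {v | v ∈ W k ∧ ω (E k) v = 0}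

theorem stab_gen {k : ℕ} (hk : k < n) {g : Sp} (hg : g ∈ Fix k) (he : app g (E k : V) = E k) :
    g ∈ gen (WP k : Set V) := by
  have ee : ω (E k) (Fv k) = -1 := by rw [f_EF _ _ hk, if_pos rfl]
  have step : ∀ a b : V, a ∈ W k → b ∈ W k → ω (E k) a = -1 → ω (E k) b = -1 → ω a b ≠ 0 →
      ∃ s ∈ gen (WP k : Set V), app s a = b := fun a b ha hb ea eb hab =>
    ⟨T (b - a) (ω a b)⁻¹, T_mem_gen (W := (WP k : Set V))
      (show b - a ∈ (WP k : Set V) from ⟨Submodule.sub_mem _ hb ha, by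
        rw [f_sub_right, ea, eb, sub_self]⟩) _, T_diff hab⟩
  have hv := Fix_app_W hg (Fv_mem_W (F := F) (n := n) (le_refl k))
  have ev : ω (E k) (app g (Fv k)) = -1 := by
    conv_lhs => rw [← he]
    rw [f_app, ee]
  obtain ⟨s, hs, hsf⟩ : ∃ s ∈ gen (WP k : Set V), app s (app g (Fv k)) = Fv k := by
    by_cases h0 : ω (app g (Fv k)) (Fv k) = 0
    · have h2 : ω (E k) (Fv k + E k) = -1 := by rw [f_add_right, ee, f_self, add_zero]
      have hW := Submodule.add_mem _ (Fv_mem_W (F := F) (n := n) (le_refl k)) (E_mem_W le_rfl)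
      obtain ⟨s₁, hs₁, e₁⟩ := step _ (Fv k + E k) hv hW ev h2 (by
        rw [f_add_right, h0, zero_add, f_swap (E k) (app g (Fv k)), ev, neg_neg]
        exact one_ne_zero)
      obtain ⟨s₂, hs₂, e₂⟩ := step _ (Fv k) hW (Fv_mem_W le_rfl) h2 ee (by
        rw [f_add_left, f_self, zero_add, ee]; exact neg_ne_zero.2 one_ne_zero)
      exact ⟨s₂ * s₁, mul_mem hs₂ hs₁, by rw [app_mul, e₁, e₂]⟩
    · exact step _ _ hv (Fv_mem_W le_rfl) ev ee h0
  have hsE : app s (E k : V) = E k := gen_fix (fun w hw => hw.2) hs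
  have hsFix : s ∈ Fix k := gen_le_Fix k (gen_mono (fun w hw => hw.1) hs)
  have hmem : s * g ∈ Fix (k + 1) :=
    Fix_succ (mul_mem hsFix hg) (by rw [app_mul, he, hsE]) (by rw [app_mul, hsf])
  have : s * g ∈ gen (WP k : Set V) :=
    gen_mono (W' := (WP k : Set V))
      (fun w hw => ⟨W_mono (Nat.le_succ k) hw, f_E_W hw (Nat.lt_succ_self k)⟩)
      (Fix_le_gen (k + 1) hmem)
  simpa using mul_mem (inv_mem hs) this

/-- The stabiliser of `E k` moves `E (k + 1)` to every orthogonal vector outside the line. -/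
theorem stab_move {k : ℕ} (hk : k < n) {w : V} (hw : w ∈ W k) (h0 : ω (E k) w = 0)
    (hi : ∀ a : F, w ≠ a • E k) :
    k + 1 < n ∧ ∃ g ∈ Fix k, app g (E k : V) = E k ∧ app g (E (k + 1) : V) = w := by
  obtain ⟨δ, hδ, hwe⟩ := W_decomp hk hw
  have hc : w (.inr ⟨k, hk⟩) = 0 := by
    rw [← f_E hk w, f_swap (E k) w, h0, neg_zero]
  rw [hc, zero_smul, add_zero] at hwe
  set a := w (.inl ⟨k, hk⟩)
  have hδ0 : δ ≠ 0 := fun h => hi a (by rw [hwe, h, add_zero])
  obtain ⟨z, hz, hδz⟩ := exists_f_ne hδ hδ0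
  have h1 : k + 1 < n := lt_of_mem_W hδ hδ0
  obtain ⟨g₀, hg₀, e₀⟩ := exists_move (E_mem_W (le_refl (k + 1))) hδ (E_ne_zero h1) hδ0
  have hE₀ : app g₀ (E k : V) = E k := (gen_le_Fix _ hg₀ k (Nat.lt_succ_self k)).1
  have hg₀F : g₀ ∈ Fix k := Fix_anti (Nat.le_succ k) (gen_le_Fix _ hg₀)
  have hzk := W_mono (Nat.le_succ k) hz
  have hδk := W_mono (Nat.le_succ k) hδ
  have ez : ω (E k) z = 0 := f_E_W hz (Nat.lt_succ_self k)
  have eδ : ω (E k) δ = 0 := f_E_W hδ (Nat.lt_succ_self k)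
  refine ⟨h1, T (w - z) (ω z w)⁻¹ * T (z - δ) (ω δ z)⁻¹ * g₀, mul_mem (mul_mem
    (T_mem_Fix (Submodule.sub_mem _ hw hzk) _) (T_mem_Fix (Submodule.sub_mem _ hzk hδk) _)) hg₀F,
    ?_, ?_⟩
  · rw [app_mul, app_mul, hE₀, app_T (z - δ), f_sub_right, ez, eδ, sub_zero, mul_zero, zero_smul,
      add_zero, app_T, f_sub_right, h0, ez, sub_zero, mul_zero, zero_smul, add_zero]
  · rw [app_mul, app_mul, e₀, T_diff hδz, T_diff]
    rw [hwe, f_add_right, f_smul_right, f_swap (E k) z, ez, neg_zero, mul_zero, zero_add,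
      f_swap δ z]
    exact neg_ne_zero.2 hδz

/-- The copy of `SL₂` on the `j`-th pair. -/
def PS (j : Fin n) : Subgroup Sp where
  carrier := {g | ∀ k : Fin n, k ≠ j → app g (E (k : ℕ) : V) = E k ∧ app g (Fv (k : ℕ) : V) = Fv k}
  one_mem' := fun _ _ => ⟨app_one _, app_one _⟩
  mul_mem' := fun {a b} ha hb k hk =>
    ⟨by rw [app_mul, (hb k hk).1, (ha k hk).1], by rw [app_mul, (hb k hk).2, (ha k hk).2]⟩
  inv_mem' := fun {a} ha k hk =>
    ⟨by conv_lhs => rw [← (ha k hk).1, app_inv]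
     , by conv_lhs => rw [← (ha k hk).2, app_inv]⟩

/-- The abelian subgroup of the pairs `i` and `i + 1`. -/
def MS (i : ℕ) : Subgroup Sp where
  carrier := {g | (∀ k : ℕ, app g (E k : V) = E k) ∧
    ∀ k : ℕ, k ≠ i → k ≠ i + 1 → app g (Fv k : V) = Fv k}
  one_mem' := ⟨fun _ => app_one _, fun _ _ _ => app_one _⟩
  mul_mem' := fun {a b} ha hb =>
    ⟨fun k => by rw [app_mul, hb.1 k, ha.1 k],
      fun k h h' => by rw [app_mul, hb.2 k h h', ha.2 k h h']⟩
  inv_mem' := fun {a} ha =>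
    ⟨fun k => by conv_lhs => rw [← ha.1 k, app_inv]
     , fun k h h' => by conv_lhs => rw [← ha.2 k h h', app_inv]⟩

theorem T_mem_PS {k : ℕ} (hk : k < n) {v : V} (hv : v = E k ∨ v = Fv k) (c : F) :
    T v c ∈ PS ⟨k, hk⟩ := by
  intro j hj
  have hne : k ≠ (j : ℕ) := fun e => hj (Fin.ext e.symm)
  constructor <;> rw [app_T] <;> rcases hv with rfl | rfl
  · rw [f_EE, mul_zero, zero_smul, add_zero]
  · rw [f_EF _ _ hk, if_neg hne, mul_zero, zero_smul, add_zero]
  · rw [f_FE _ _ hk, if_neg hne, mul_zero, zero_smul, add_zero]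
  · rw [f_FF, mul_zero, zero_smul, add_zero]

theorem PS_le_Fix {k : ℕ} {j : Fin n} (h : k ≤ (j : ℕ)) : (PS j : Subgroup Sp) ≤ Fix k :=
  fun _ hg i hi => by
    by_cases hin : i < n
    · exact hg ⟨i, hin⟩ (fun e => by have := congrArg Fin.val e; simp at this; omega)
    · simp [E_of_le (not_lt.1 hin), Fv_of_le (not_lt.1 hin), app_zero']

theorem MS_le_Fix {i k : ℕ} (h : k ≤ i) : (MS i : Subgroup Sp) ≤ Fix k :=
  fun _ hg j hj => ⟨hg.1 j, hg.2 j (by omega) (by omega)⟩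

theorem T_E_mem_MS {i k : ℕ} (h : k = i ∨ k = i + 1) (hk : k < n) (c : F) :
    T (E k : V) c ∈ MS i := by
  refine ⟨fun j => ?_, fun j h1 h2 => ?_⟩ <;> rw [app_T]
  · rw [f_EE, mul_zero, zero_smul, add_zero]
  · rw [f_FE _ _ hk, if_neg (by omega), mul_zero, zero_smul, add_zero]

/-- The element `x ↦ x + ω(x, E k) v + ω(x, v) E k`. -/
def eta (k : ℕ) (v : V) : Sp := P (E k) v 1

theorem app_eta {k : ℕ} {v : V} (hv : ω (E k) v = 0) (x : V) :
    app (eta k v) x = x + (ω x (E k) • v + ω x v • E k) := by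
  rw [eta, app_P hv, one_mul, one_mul]

theorem eta_mem_Fix {k : ℕ} {v : V} (hv : v ∈ W k) : eta k v ∈ Fix k := by
  rw [eta, P]
  exact mul_mem (mul_mem (T_mem_Fix (Submodule.add_mem _ (E_mem_W le_rfl) hv) _)
    (T_mem_Fix (E_mem_W le_rfl) _)) (T_mem_Fix hv _)

theorem eta_zero (k : ℕ) : eta k (0 : V) = 1 := by
  rw [eta, P, add_zero, T_zero', mul_one, T_mul, add_neg_cancel, T_zero]

theorem eta_mem_MS {k : ℕ} (hk : k + 1 < n) (t : F) : eta k (t • E (k + 1) : V) ∈ MS k := by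
  have h0 : ω (E k) (t • E (k + 1) : V) = 0 := by rw [f_smul_right, f_EE, mul_zero]
  refine ⟨fun j => ?_, fun j h1 h2 => ?_⟩ <;> rw [app_eta h0, f_smul_right]
  · rw [f_EE, f_EE, mul_zero, zero_smul, zero_smul, add_zero, add_zero]
  · rw [f_FE _ _ (by omega), if_neg h1.symm, f_FE _ _ hk, if_neg h2.symm, mul_zero, zero_smul,
      zero_smul, add_zero, add_zero]

theorem eta_Fv {k : ℕ} (hk : k < n) {v : V} (hv : v ∈ W (k + 1)) :
    app (eta k v) (Fv k) = Fv k + v := by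
  rw [app_eta (f_E_W hv (Nat.lt_succ_self k)), f_FE _ _ hk, if_pos rfl,
    f_Fv_W hv (Nat.lt_succ_self k), one_smul, zero_smul, add_zero]

theorem eta_E {k : ℕ} {v : V} (hv : v ∈ W (k + 1)) : app (eta k v) (E k) = E k := by
  rw [app_eta (f_E_W hv (Nat.lt_succ_self k)), f_self, f_E_W hv (Nat.lt_succ_self k),
    zero_smul, zero_smul, add_zero, add_zero]

theorem eta_mul {k : ℕ} (hk : k < n) {v w : V} (hv : v ∈ W (k + 1)) (hw : w ∈ W (k + 1)) :
    eta k v * eta k w = eta k (v + w) * T (E k) (ω w v) := by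
  have e1 := f_E_W hv (Nat.lt_succ_self k)
  have e2 := f_E_W hw (Nat.lt_succ_self k)
  have ev : ω (E k) (E k) = 0 := f_self _
  have e3 : ω (E k) (v + w) = 0 := by rw [f_add_right, e1, e2, add_zero]
  refine ext_app fun x => ?_
  rw [app_mul, app_mul, app_eta e2, app_eta e1, app_T, app_eta e3]
  simp only [f_add_left, f_add_right, f_smul_left, f_smul_right, ev, e1, e2, f_swap (E k) w,
    mul_zero, add_zero, zero_add, neg_zero]
  module

theorem conj_eta {k : ℕ} {g : Sp} (hg : app g (E k : V) = E k) (v : V) :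
    g * eta k v * g⁻¹ = eta k (app g v) := by
  rw [eta, conj_P, hg, eta]

/-- An element fixing `E k`, in terms of the unipotent radical. -/
theorem stab_decomp {k : ℕ} (hk : k < n) {g : Sp} (hg : g ∈ Fix k)
    (he : app g (E k : V) = E k) :
    ∃ v ∈ (W (k + 1) : Submodule F V), ∃ t : F,
      app g (Fv k : V) = Fv k + v + t • E k ∧
      (eta k v * T (E k) t)⁻¹ * g ∈ Fix (k + 1) := by
  obtain ⟨v, hv, hd⟩ := W_decomp hk (Fix_app_W hg (Fv_mem_W (F := F) (n := n) (le_refl k)))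
  have hc : (app g (Fv k : V)) (.inr ⟨k, hk⟩) = 1 := by
    rw [← f_E hk (app g (Fv k))]
    conv_lhs => rw [← he]
    rw [f_app, f_FE _ _ hk, if_pos rfl]
  set t := (app g (Fv k : V)) (.inl ⟨k, hk⟩)
  rw [hc, one_smul] at hd
  have e1 : app (eta k v * T (E k) t) (Fv k : V) = app g (Fv k) := by
    rw [app_mul, app_T, f_FE _ _ hk, if_pos rfl, mul_one, app_add, app_smul, eta_Fv hk hv,
      eta_E hv, hd]
    abel
  have e2 : app (eta k v * T (E k) t) (E k : V) = E k := by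
    rw [app_mul, app_T, f_self, mul_zero, zero_smul, add_zero, eta_E hv]
  refine ⟨v, hv, t, by rw [hd]; abel, Fix_succ (mul_mem (inv_mem (mul_mem
    (eta_mem_Fix (W_mono (Nat.le_succ k) hv)) (T_mem_Fix (E_mem_W le_rfl) _))) hg) ?_ ?_⟩
  · rw [app_mul, he]
    conv_lhs => arg 2; rw [← e2]
    rw [app_inv]
  · rw [app_mul, ← e1, app_inv]

/-- Fixes everything outside the pairs `k`, `k + 1`, and fixes `E (k + 1)`. -/
def Two (k : ℕ) : Subgroup Sp where
  carrier := {g | app g (E (k + 1) : V) = E (k + 1) ∧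
    ∀ i : ℕ, i ≠ k → i ≠ k + 1 → app g (E i : V) = E i ∧ app g (Fv i : V) = Fv i}
  one_mem' := ⟨app_one _, fun _ _ _ => ⟨app_one _, app_one _⟩⟩
  mul_mem' := fun {a b} ha hb => ⟨by rw [app_mul, hb.1, ha.1], fun i h h' =>
    ⟨by rw [app_mul, (hb.2 i h h').1, (ha.2 i h h').1],
      by rw [app_mul, (hb.2 i h h').2, (ha.2 i h h').2]⟩⟩
  inv_mem' := fun {a} ha =>
    ⟨by conv_lhs => rw [← ha.1, app_inv]
     , fun i h h' => ⟨by conv_lhs => rw [← (ha.2 i h h').1, app_inv]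
                     , by conv_lhs => rw [← (ha.2 i h h').2, app_inv]⟩⟩

theorem PS_le_Two {k : ℕ} (hk : k < n) : (PS ⟨k, hk⟩ : Subgroup Sp) ≤ Two k := fun g hg => by
  have h : ∀ i : ℕ, i ≠ k → app g (E i : V) = E i ∧ app g (Fv i : V) = Fv i := fun i hi => by
    by_cases hin : i < n
    · exact hg ⟨i, hin⟩ (fun e => hi (congrArg Fin.val e))
    · simp [E_of_le (not_lt.1 hin), Fv_of_le (not_lt.1 hin), app_zero']
  exact ⟨(h _ (Nat.succ_ne_self k)).1, fun i h1 _ => h i h1⟩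

theorem MS_le_Two (k : ℕ) : (MS k : Subgroup Sp) ≤ Two k :=
  fun _ hg => ⟨hg.1 _, fun i h h' => ⟨hg.1 i, hg.2 i h h'⟩⟩

/-- An element of `Two k` fixing `E k`. -/
theorem two_stab {k : ℕ} (hk : k + 1 < n) {g : Sp} (hg : g ∈ Two k)
    (he : app g (E k : V) = E k) :
    ∃ α t s : F, g = eta k (α • E (k + 1)) * T (E k) t * T (E (k + 1)) s := by
  have hgF : g ∈ Fix k := fun i hi => hg.2 i (by omega) (by omega)
  obtain ⟨v, hv, t, hf, hl⟩ := stab_decomp (by omega : k < n) hgF he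
  have hvE : v = v (.inl ⟨k + 1, hk⟩) • E (k + 1) := by
    funext j
    rcases j with i | i
    · rw [Pi.smul_apply, smul_eq_mul, E_inl]
      by_cases h1 : (i : ℕ) = k + 1
      · obtain rfl : i = ⟨k + 1, hk⟩ := Fin.ext h1
        simp
      rw [if_neg h1, mul_zero]
      by_cases h2 : (i : ℕ) < k + 1
      · exact (hv i h2).1
      have h := f_app g (Fv k) (Fv (i : ℕ))
      rw [(hg.2 i (by omega) h1).2, hf, f_FF, f_Fv i.2] at h
      simp [E_inl, Fv_inl, show (i : ℕ) ≠ k by omega] at h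
      exact h
    · rw [Pi.smul_apply, smul_eq_mul, E_inr, mul_zero]
      by_cases h2 : (i : ℕ) < k + 1
      · exact (hv i h2).2
      have hfix : app g (E (i : ℕ) : V) = E i := by
        by_cases h1 : (i : ℕ) = k + 1
        · rw [h1]; exact hg.1
        · exact (hg.2 i (by omega) h1).1
      have h := f_app g (Fv k) (E (i : ℕ))
      rw [hfix, hf, f_FE _ _ i.2, if_neg (by omega), f_E i.2] at h
      simp [E_inr, Fv_inr, show (i : ℕ) ≠ k by omega] at h
      exact h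
  set α := v (.inl ⟨k + 1, hk⟩)
  rw [hvE] at hl
  set l := (eta k (α • E (k + 1) : V) * T (E k) t)⁻¹ * g with hldef
  have hN : eta k (α • E (k + 1) : V) * T (E k) t ∈ Two k :=
    mul_mem (MS_le_Two k (eta_mem_MS hk α)) (MS_le_Two k (T_E_mem_MS (.inl rfl) (by omega) t))
  have hl2 : l ∈ Two k := mul_mem (inv_mem hN) hg
  obtain ⟨v', hv', s, hf', hl'⟩ := stab_decomp hk hl hl2.1
  have hv0 : v' = 0 := by
    funext j
    rcases j with i | i
    · by_cases h2 : (i : ℕ) < k + 1 + 1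
      · exact (hv' i h2).1
      have h := f_app l (Fv (k + 1)) (Fv (i : ℕ))
      rw [(hl2.2 i (by omega) (by omega)).2, hf', f_FF, f_Fv i.2] at h
      simp [E_inl, Fv_inl, show (i : ℕ) ≠ k + 1 by omega] at h
      exact h
    · by_cases h2 : (i : ℕ) < k + 1 + 1
      · exact (hv' i h2).2
      have h := f_app l (Fv (k + 1)) (E (i : ℕ))
      rw [(hl2.2 i (by omega) (by omega)).1, hf', f_FE _ _ i.2, if_neg (by omega), f_E i.2] at h
      simp [E_inr, Fv_inr, show (i : ℕ) ≠ k + 1 by omega] at h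
      exact h
  have he2 : l = T (E (k + 1)) s := by
    refine eq_of_basis fun i hi => ?_
    by_cases h1 : i = k + 1
    · subst h1
      rw [hl2.1, hf', hv0, app_T, app_T, f_self, f_FE _ _ hk, if_pos rfl]
      simp
    have hfix : app l (E i : V) = E i ∧ app l (Fv i : V) = Fv i := by
      by_cases h2 : i = k
      · subst h2; exact hl i (Nat.lt_succ_self i)
      · exact hl2.2 i h2 h1
    rw [hfix.1, hfix.2, app_T, app_T, f_EE, f_FE _ _ hk, if_neg (by omega)]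
    simp
  exact ⟨α, t, s, by rw [← he2, hldef, ← mul_assoc, mul_inv_cancel, one_mul]⟩

end CfsgLib.Classical.SympSlim
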