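import Cfsg.Agent.Lib.Classical.SympSlim.Rule

/-!
# Cosets of the parabolic subgroup, indexed by vectors

A coset is attached first to the vectors off the hyperplane orthogonal to `E k`, and is carried to
the other vectors by the opposite unipotent radical.
-/

set_option autoImplicit false
set_option linter.unusedSectionVars false

namespace CfsgLib.Classical.SympSlim

open Matrix Cfsg
open CfsgLib.Classical.SympTrans
open CfsgLib.Classical.SympRegGen (E Fv E_inl E_inr Fv_inl Fv_inr f_E f_Fv f_EE f_FF f_FE f_EF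
  T_inv T_comm P app_P conj_P plane)

variable {F : Type*} [Field F] {n : ℕ}

theorem PS_stab {k : ℕ} {hk : k < n} {g : Matrix.symplecticGroup (Fin n) F} (hg : g ∈ PS ⟨k, hk⟩)
    (he : app g (E k : Fin n ⊕ Fin n → F) = E k) : ∃ t : F, g = T (E k) t := by
  obtain ⟨v, hv, t, hf, hl⟩ := stab_decomp hk (PS_le_Fix (j := ⟨k, hk⟩) le_rfl hg) he
  have hv0 : v = 0 := by
    by_contra h0
    obtain ⟨y, hy, hvy⟩ := exists_f_ne hv h0
    refine hvy ?_
    have h := f_app g (Fv k) y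
    rw [PS_fix_W hg hy, hf, f_add_left, f_add_left, f_smul_left,
      f_E_W hy (Nat.lt_succ_self k), mul_zero, add_zero, add_eq_left] at h
    exact h
  rw [hv0, eta_zero, one_mul] at hl
  refine ⟨t, (inv_mul_eq_one.1 ?_).symm⟩
  refine eq_of_basis fun i hi => ?_
  by_cases h : i = k
  · subst h; rw [app_one, app_one]; exact hl i (Nat.lt_succ_self i)
  · rw [app_one, app_one]
    exact mul_mem (inv_mem (T_mem_PS hk (.inl rfl) t)) hg ⟨i, hi⟩ (fun e => h (congrArg Fin.val e))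

variable {G : Type*} [Group G]
variable {π : G →* Matrix.symplecticGroup (Fin n) F} {Sg : Fin n → Subgroup G} {Mg : ℕ → Subgroup G}
variable {k : ℕ}

local notation "V" => (Fin n ⊕ Fin n → F)
local notation "Sp" => Matrix.symplecticGroup (Fin n) F
local notation "ω" => sympForm n F
local notation "Y" => YY π Sg Mg k
local notation "Z" => zz π Sg k
local notation "N" => nn π Sg Mg k
local notation "K'" => K Sg Mg (k + 1)

/-- An element of the `k`-th plane taking `E k` to `c • Fv k`. -/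
noncomputable def wc (π : G →* Matrix.symplecticGroup (Fin n) F) (Sg : Fin n → Subgroup G) (k : ℕ)
    (c : F) : G :=
  if h : k < n then lift π (Sg ⟨k, h⟩) (T (E k) (-c⁻¹) * T (Fv k) (-c)) else 1

/-- The opposite unipotent radical. -/
noncomputable def nb (π : G →* Matrix.symplecticGroup (Fin n) F) (Sg : Fin n → Subgroup G)
    (Mg : ℕ → Subgroup G) (k : ℕ) (v : Fin n ⊕ Fin n → F) (t : F) : G :=
  wc π Sg k 1 * nn π Sg Mg k v t * (wc π Sg k 1)⁻¹

/-- The component outside the `k`-th plane. -/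
def dl (k : ℕ) (hk : k < n) (v : Fin n ⊕ Fin n → F) : Fin n ⊕ Fin n → F :=
  v - (v (.inl ⟨k, hk⟩) • E k + v (.inr ⟨k, hk⟩) • Fv k)

theorem dl_mem {hk : k < n} {v : V} (hv : v ∈ W k) : dl k hk v ∈ W (k + 1) := by
  obtain ⟨δ, hδ, he⟩ := W_decomp hk hv
  have : dl k hk v = δ := by rw [dl]; conv_lhs => arg 1; rw [he]
                             abel
  exact this ▸ hδ

theorem dl_spec (hk : k < n) (v : V) :
    v = v (.inl ⟨k, hk⟩) • E k + v (.inr ⟨k, hk⟩) • Fv k + dl k hk v := by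
  rw [dl]; abel

variable (D : Stage π Sg Mg k)
include D

theorem Stage.wc_mem (c : F) : wc π Sg k c ∈ Sg ⟨k, D.lt⟩ := by
  rw [wc, dif_pos D.lt]; exact lift_mem

theorem Stage.map_wc (c : F) : π (wc π Sg k c) = T (E k) (-c⁻¹) * T (Fv k) (-c) := by
  rw [wc, dif_pos D.lt]
  exact map_lift (by
    rw [D.slim.imS]; exact mul_mem (T_mem_PS D.lt (.inl rfl) _) (T_mem_PS D.lt (.inr rfl) _))

theorem Stage.wc_E {c : F} (hc : c ≠ 0) :
    app (π (wc π Sg k c)) (E k : V) = c • Fv k := by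
  rw [D.map_wc, app_mul, app_T (Fv k), f_EF _ _ D.lt, if_pos rfl, app_T, f_add_left, f_smul_left,
    f_self, f_FE _ _ D.lt, if_pos rfl]
  match_scalars <;> field_simp <;> ring

theorem Stage.map_S {x : G} (hx : x ∈ Sg ⟨k, D.lt⟩) : π x ∈ PS ⟨k, D.lt⟩ :=
  D.slim.imS ⟨k, D.lt⟩ ▸ Subgroup.mem_map_of_mem π hx

theorem Stage.S_stab {x : G} (hx : x ∈ Sg ⟨k, D.lt⟩) (he : app (π x) (E k : V) = E k) :
    x ∈ D.PP := by
  obtain ⟨t, ht⟩ := PS_stab (D.map_S hx) he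
  have : x = N 0 t := by
    rw [nn, D.YY_zero, one_mul]
    exact D.injS hx (D.zz_mem t) (by rw [D.map_zz, ht])
  exact this ▸ D.nn_mem_PP (Submodule.zero_mem _) t

theorem Stage.YY_line_mem (hk : k + 1 < n) (a : F) : Y (a • E (k + 1)) ∈ Mg k := by
  have hm : eta k (a • E (k + 1) : V) ∈ (Mg k).map π := by
    rw [D.slim.imM k hk]; exact eta_mem_MS hk a
  have : lift π (Mg k) (eta k (a • E (k + 1) : V)) = Y (a • E (k + 1)) :=
    D.slim.injMS k ⟨k + 1, hk⟩ hk (Subgroup.mem_sup_left lift_mem)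
      (D.plane_YY_mem hk (D.inPlane_E a))
      (by rw [map_lift hm, D.map_YY (Submodule.smul_mem _ _ (E_mem_W le_rfl))])
  exact this ▸ lift_mem

theorem Stage.two_mem (hk : k + 1 < n) {d : G} (hd : d ∈ Mg k ⊔ Sg ⟨k, D.lt⟩)
    (he : app (π d) (E k : V) = E k) : d ∈ D.PP := by
  have hT : π d ∈ Two k := by
    have hle : (Mg k ⊔ Sg ⟨k, D.lt⟩).map π ≤ Two k := by
      rw [Subgroup.map_sup, D.slim.imM k hk, D.slim.imS]
      exact sup_le (MS_le_Two k) (PS_le_Two D.lt)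
    exact hle (Subgroup.mem_map_of_mem π hd)
  obtain ⟨α, t, s, hg⟩ := two_stab hk hT he
  have hm : π d ∈ (Mg k).map π := by
    rw [D.slim.imM k hk, hg]
    exact mul_mem (mul_mem (eta_mem_MS hk α) (T_E_mem_MS (.inl rfl) D.lt t))
      (T_E_mem_MS (.inr rfl) hk s)
  obtain ⟨m, hm, hme⟩ := Subgroup.mem_map.1 hm
  have hdm : d = m := D.slim.injMS k ⟨k, D.lt⟩ hk hd (Subgroup.mem_sup_left hm) hme.symm
  have hT' : T (E (k + 1) : V) s ∈ (Sg ⟨k + 1, hk⟩).map π := by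
    rw [D.slim.imS]; exact T_mem_PS hk (.inl rfl) s
  obtain ⟨a, ha, hae⟩ := Subgroup.mem_map.1 hT'
  have hαW : α • (E (k + 1) : V) ∈ W (k + 1) := Submodule.smul_mem _ _ (E_mem_W le_rfl)
  have hmx : m = N (α • E (k + 1)) t * a := by
    refine D.slim.injMS k ⟨k + 1, hk⟩ hk (Subgroup.mem_sup_left hm) (mul_mem
      (Subgroup.mem_sup_left (mul_mem (D.YY_line_mem hk α) (D.zz_mem_M hk t)))
      (Subgroup.mem_sup_right ha)) ?_
    rw [map_mul, D.map_nn hαW, hae, hme, hg]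
  rw [hdm, hmx]
  exact mul_mem (D.nn_mem_PP hαW t) (D.K_le_PP (Sg_le_K (j := ⟨k + 1, hk⟩) le_rfl ha))

theorem Stage.PP_fix_F {x : G} (hx : x ∈ D.PP) {c : F} (hc : c ≠ 0)
    (h : app (π x) (c • Fv k : V) = c • Fv k) : x ∈ K' := by
  obtain ⟨v, hv, t, a, ha, rfl⟩ := hx
  rw [app_smul, map_mul, D.map_nn hv, app_mul, (D.map_mem ha k (Nat.lt_succ_self k)).2, app_mul,
    app_T, f_FE _ _ D.lt, if_pos rfl, mul_one, app_add, app_smul, eta_Fv D.lt hv, eta_E hv] at h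
  have h' := smul_right_injective V hc h
  rw [add_assoc, add_eq_left] at h'
  have ht : t = 0 := by
    have := congrFun h' (.inl ⟨k, D.lt⟩)
    simpa [E_inl, (hv ⟨k, D.lt⟩ (Nat.lt_succ_self k)).1] using this
  rw [ht, zero_smul, add_zero] at h'
  rwa [h', ht, D.nn_zero, one_mul]

/-- The representative of the coset attached to `v`. -/
noncomputable def Stage.rep (v : V) : G :=
  N ((v (.inr ⟨k, D.lt⟩))⁻¹ • dl k D.lt v) ((v (.inr ⟨k, D.lt⟩))⁻¹ * v (.inl ⟨k, D.lt⟩)) *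
    wc π Sg k (v (.inr ⟨k, D.lt⟩))

/-- The coset attached to `v`. -/
noncomputable def Stage.Cc (v : V) : G ⧸ D.PP := (D.rep v : G ⧸ D.PP)

theorem Stage.map_rep {v : V} (hv : v ∈ W k) (hc : v (.inr ⟨k, D.lt⟩) ≠ 0) :
    app (π (D.rep v)) (E k : V) = v := by
  rw [Stage.rep, map_mul, app_mul, D.wc_E hc, app_smul,
    D.map_nn (Submodule.smul_mem _ _ (dl_mem hv)), app_mul, app_T, f_FE _ _ D.lt, if_pos rfl,
    mul_one, app_add, app_smul, eta_Fv D.lt (Submodule.smul_mem _ _ (dl_mem hv)),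
    eta_E (Submodule.smul_mem _ _ (dl_mem hv))]
  conv_rhs => rw [dl_spec D.lt v]
  match_scalars <;> field_simp

theorem Stage.cc_PP {q : G} (hq : q ∈ D.PP) (v : V) :
    (app (π q) v) (.inr ⟨k, D.lt⟩) = v (.inr ⟨k, D.lt⟩) := by
  rw [← f_E D.lt (app (π q) v), ← f_E D.lt v]
  conv_lhs => rw [← (D.map_PP hq).2]
  rw [f_app]

theorem Stage.smul_Cc_PP {q : G} (hq : q ∈ D.PP) {v : V} (hv : v ∈ W k)
    (hc : v (.inr ⟨k, D.lt⟩) ≠ 0) : q • D.Cc v = D.Cc (app (π q) v) := by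
  set c := v (.inr ⟨k, D.lt⟩) with hcdef
  have hv' : app (π q) v ∈ W k := Fix_app_W (D.map_PP hq).1 hv
  have hc' : (app (π q) v) (.inr ⟨k, D.lt⟩) = c := D.cc_PP hq v
  set p := N (c⁻¹ • dl k D.lt v) (c⁻¹ * v (.inl ⟨k, D.lt⟩))
  set p' := N (c⁻¹ • dl k D.lt (app (π q) v)) (c⁻¹ * (app (π q) v) (.inl ⟨k, D.lt⟩))
  have hp : app (π p) (c • Fv k : V) = v := by
    have h := D.map_rep hv hc
    rwa [Stage.rep, map_mul, app_mul, D.wc_E hc] at h
  have hp' : app (π p') (c • Fv k : V) = app (π q) v := by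
    have h := D.map_rep hv' (hc'.symm ▸ hc)
    rwa [Stage.rep, hc', map_mul, app_mul, D.wc_E hc] at h
  have hpm : p ∈ D.PP := D.nn_mem_PP (Submodule.smul_mem _ _ (dl_mem hv)) _
  have hpm' : p' ∈ D.PP := D.nn_mem_PP (Submodule.smul_mem _ _ (dl_mem hv')) _
  have hl : p'⁻¹ * q * p ∈ K' := D.PP_fix_F (mul_mem (mul_mem (inv_mem hpm') hq) hpm) hc (by
    rw [map_mul, map_mul, map_inv, app_mul, hp, app_mul]
    conv_lhs => arg 2; rw [← hp']
    rw [app_inv])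
  rw [Stage.Cc, Stage.Cc, MulAction.Quotient.smul_coe, smul_eq_mul, QuotientGroup.eq,
    Stage.rep, Stage.rep, hc']
  have hcom := (D.slim.comm_S D.lt (D.wc_mem c) hl).symm
  have e : q * (p * wc π Sg k c) = p' * wc π Sg k c * (p'⁻¹ * q * p) := by
    rw [mul_assoc p', ← hcom.eq]; group
  show (q * (p * wc π Sg k c))⁻¹ * (p' * wc π Sg k c) ∈ D.PP
  rw [e, _root_.mul_inv_rev, inv_mul_cancel_right]
  exact D.K_le_PP (inv_mem hl)

theorem Stage.S_fix_W {x : G} (hx : x ∈ Sg ⟨k, D.lt⟩) {δ : V} (hδ : δ ∈ W (k + 1)) :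
    app (π x) δ = δ := PS_fix_W (D.map_S hx) hδ

theorem Stage.smul_Cc_S {x : G} (hx : x ∈ Sg ⟨k, D.lt⟩) {v : V} (hv : v ∈ W k)
    (hc : v (.inr ⟨k, D.lt⟩) ≠ 0) (hc' : (app (π x) v) (.inr ⟨k, D.lt⟩) ≠ 0) :
    x • D.Cc v = D.Cc (app (π x) v) := by
  have dlx : ∀ u ∈ (W k : Submodule F V), dl k D.lt (app (π x) u) = dl k D.lt u := by
    intro u hu
    have h1 := dl_spec D.lt u
    have hE := Fix_app_W (PS_le_Fix (j := ⟨k, D.lt⟩) le_rfl (D.map_S hx))
      (E_mem_W (F := F) (n := n) (le_refl k))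
    have hF := Fix_app_W (PS_le_Fix (j := ⟨k, D.lt⟩) le_rfl (D.map_S hx))
      (Fv_mem_W (F := F) (n := n) (le_refl k))
    have h0 : ∀ u₀ ∈ (W k : Submodule F V), (∀ y ∈ (W (k + 1) : Submodule F V), ω u₀ y = 0) →
        dl k D.lt u₀ = 0 := by
      intro u₀ hu₀ hperp
      by_contra hne
      obtain ⟨y, hy, hy0⟩ := exists_f_ne (dl_mem hu₀) hne
      refine hy0 ?_
      have := hperp y hy
      rwa [dl_spec D.lt u₀, f_add_left, f_add_left, f_smul_left, f_smul_left,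
        f_E_W hy (Nat.lt_succ_self k), f_Fv_W hy (Nat.lt_succ_self k), mul_zero, mul_zero,
        zero_add, zero_add] at this
    have hEd := h0 _ hE fun y hy => by
      conv_lhs => rw [← D.S_fix_W hx hy, f_app]
      exact f_E_W hy (Nat.lt_succ_self k)
    have hFd := h0 _ hF fun y hy => by
      conv_lhs => rw [← D.S_fix_W hx hy, f_app]
      exact f_Fv_W hy (Nat.lt_succ_self k)
    set δ := dl k D.lt u
    set a := u (.inl ⟨k, D.lt⟩)
    set c := u (.inr ⟨k, D.lt⟩)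
    have e : app (π x) u = a • app (π x) (E k) + c • app (π x) (Fv k) + δ := by
      conv_lhs => rw [h1, app_add, app_add, app_smul, app_smul, D.S_fix_W hx (dl_mem hu)]
    rw [dl] at hEd hFd ⊢
    rw [sub_eq_zero] at hEd hFd
    rw [e]
    simp only [Pi.add_apply, Pi.smul_apply, smul_eq_mul, (dl_mem (hk := D.lt) hu ⟨k, D.lt⟩
      (Nat.lt_succ_self k)).1, (dl_mem (hk := D.lt) hu ⟨k, D.lt⟩ (Nat.lt_succ_self k)).2, δ]
    conv_lhs => arg 1; rw [hEd, hFd]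
    module
  have hx' : ∀ u ∈ (W k : Submodule F V), app (π x) u ∈ (W k : Submodule F V) := fun u hu =>
    Fix_app_W (PS_le_Fix (j := ⟨k, D.lt⟩) le_rfl (D.map_S hx)) hu
  have main : ∀ u ∈ (W k : Submodule F V), u (.inr ⟨k, D.lt⟩) ≠ 0 →
      (app (π x) u) (.inr ⟨k, D.lt⟩) ≠ 0 → (dl k D.lt u = 0 ∨ dl k D.lt u = E (k + 1)) →
      x • D.Cc u = D.Cc (app (π x) u) := by
    intro u hu hcu hcu' hd
    rw [Stage.Cc, Stage.Cc, MulAction.Quotient.smul_coe, smul_eq_mul, QuotientGroup.eq]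
    have he : app (π ((x * D.rep u)⁻¹ * D.rep (app (π x) u))) (E k : V) = E k := by
      rw [map_mul, map_inv, app_mul, D.map_rep (hx' u hu) hcu', map_mul, _root_.mul_inv_rev,
        app_mul, app_inv]
      conv_lhs => arg 2; rw [← D.map_rep hu hcu]
      rw [app_inv]
    by_cases hk : k + 1 < n
    · refine D.two_mem hk ?_ he
      have hw : ∀ c, wc π Sg k c ∈ Mg k ⊔ Sg ⟨k, D.lt⟩ := fun c => Subgroup.mem_sup_right (D.wc_mem c)
      have hrep : ∀ u', dl k D.lt u' = 0 ∨ dl k D.lt u' = E (k + 1) →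
          D.rep u' ∈ Mg k ⊔ Sg ⟨k, D.lt⟩ := by
        intro u' hu'
        refine mul_mem (mul_mem ?_ (Subgroup.mem_sup_right (D.zz_mem _))) (hw _)
        rcases hu' with h | h <;> rw [h]
        · rw [smul_zero, D.YY_zero]; exact one_mem _
        · exact Subgroup.mem_sup_left (D.YY_line_mem hk _)
      exact mul_mem (inv_mem (mul_mem (Subgroup.mem_sup_right hx) (hrep u hd)))
        (hrep _ (by rwa [dlx u hu]))
    · refine D.S_stab ?_ he
      have hd0 : dl k D.lt u = 0 := W_top (not_lt.1 hk) (dl_mem hu)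
      have hrep : ∀ u', dl k D.lt u' = 0 → D.rep u' ∈ Sg ⟨k, D.lt⟩ := by
        intro u' hu'
        refine mul_mem (mul_mem ?_ (D.zz_mem _)) (D.wc_mem _)
        rw [hu', smul_zero, D.YY_zero]; exact one_mem _
      exact mul_mem (inv_mem (mul_mem hx (hrep u hd0))) (hrep _ (by rwa [dlx u hu]))
  by_cases hd : dl k D.lt v = 0
  · exact main v hv hc hc' (.inl hd)
  obtain ⟨g, hg, hgd⟩ := exists_move (E_mem_W (le_refl (k + 1))) (dl_mem hv)
    (E_ne_zero (lt_of_mem_W (dl_mem hv) hd)) hd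
  obtain ⟨l, hl, hle⟩ := D.exists_lift (gen_le_Fix _ hg)
  have hlP := D.K_le_PP hl
  set u : V := v (.inl ⟨k, D.lt⟩) • E k + v (.inr ⟨k, D.lt⟩) • Fv k + E (k + 1)
  have hu : u ∈ (W k : Submodule F V) := Submodule.add_mem _ (Submodule.add_mem _
    (Submodule.smul_mem _ _ (E_mem_W le_rfl)) (Submodule.smul_mem _ _ (Fv_mem_W le_rfl)))
    (E_mem_W (by omega))
  have hul : app (π l) u = v := by
    rw [hle]
    conv_rhs => rw [dl_spec D.lt v]
    obtain ⟨h1, h2⟩ := gen_le_Fix _ hg k (Nat.lt_succ_self k)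
    rw [app_add, app_add, app_smul, app_smul, h1, h2, hgd]
  have hud : dl k D.lt u = E (k + 1) := by
    rw [dl]
    simp only [u, Pi.add_apply, Pi.smul_apply, smul_eq_mul, E_inl, E_inr, Fv_inl, Fv_inr]
    simp [show k ≠ k + 1 by omega]
  have hcu : u (.inr ⟨k, D.lt⟩) ≠ 0 := by
    rwa [← D.cc_PP hlP u, hul]
  have hswap : app (π x) v = app (π l) (app (π x) u) := by
    rw [← hul, ← app_mul, ← map_mul, (D.slim.comm_S D.lt hx hl).eq, map_mul, app_mul]
  have hcu' : (app (π x) u) (.inr ⟨k, D.lt⟩) ≠ 0 := by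
    rwa [← D.cc_PP hlP (app (π x) u), ← hswap]
  rw [hswap, ← D.smul_Cc_PP hlP (hx' u hu) hcu', ← main u hu hcu hcu' (.inr hud), ← mul_smul,
    ← (D.slim.comm_S D.lt hx hl).eq, mul_smul, D.smul_Cc_PP hlP hu hcu, hul]

theorem Stage.comm_w0 {a : G} (ha : a ∈ K') : Commute (wc π Sg k 1) a :=
  D.slim.comm_S D.lt (D.wc_mem 1) ha

theorem Stage.nb_mul {v w : V} (hv : v ∈ W (k + 1)) (hw : w ∈ W (k + 1)) (s t : F) :
    nb π Sg Mg k v s * nb π Sg Mg k w t = nb π Sg Mg k (v + w) (ω w v + (s + t)) := by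
  simp only [nb, ← D.nn_mul hv hw]; group

theorem Stage.nb_inv {v : V} (hv : v ∈ W (k + 1)) (t : F) :
    (nb π Sg Mg k v t)⁻¹ = nb π Sg Mg k (-v) (-t) := by
  simp only [nb, ← D.nn_inv hv]; group

theorem Stage.nb_zero : nb π Sg Mg k (0 : V) 0 = 1 := by
  rw [nb, D.nn_zero, mul_one, mul_inv_cancel]

theorem Stage.nb_Fix {w : V} (hw : w ∈ W (k + 1)) (t : F) : π (nb π Sg Mg k w t) ∈ Fix k := by
  have hw0 : π (wc π Sg k 1) ∈ Fix k := PS_le_Fix (j := ⟨k, D.lt⟩) le_rfl (D.map_S (D.wc_mem 1))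
  rw [nb, map_mul, map_mul, map_inv]
  exact mul_mem (mul_mem hw0 (D.map_PP (D.nn_mem_PP hw t)).1) (inv_mem hw0)

theorem Stage.app_nb {w : V} (hw : w ∈ W (k + 1)) (t : F) (x : V) :
    app (π (nb π Sg Mg k w t)) x =
      app (T (Fv k) t) x + (ω (app (T (Fv k) t) x) (Fv k) • w + ω (app (T (Fv k) t) x) w • Fv k) := by
  have h1 : app (π (wc π Sg k 1)) (E k : V) = Fv k := by rw [D.wc_E one_ne_zero, one_smul]
  rw [nb, map_mul, map_mul, map_inv, D.map_nn hw, conj_mul.symm, conj_T, h1, eta, conj_P, h1,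
    D.S_fix_W (D.wc_mem 1) hw, app_mul, app_P (f_Fv_W hw (Nat.lt_succ_self k)), one_mul, one_mul]

theorem Stage.cc_nb {w : V} (hw : w ∈ W (k + 1)) (t : F) (x : V) :
    (app (π (nb π Sg Mg k w t)) x) (.inr ⟨k, D.lt⟩) =
      x (.inr ⟨k, D.lt⟩) - t * x (.inl ⟨k, D.lt⟩) + ω x w := by
  rw [← f_E D.lt (app (π (nb π Sg Mg k w t)) x), D.app_nb hw, app_T]
  simp only [f_add_left, f_smul_left, f_swap (E k) w, f_E_W hw (Nat.lt_succ_self k),
    f_FE _ _ D.lt, if_true, f_Fv_W hw (Nat.lt_succ_self k), f_E D.lt x, f_Fv D.lt x, f_self]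
  ring

/-- The commutator of the long root group with the opposite radical lies in the parabolic. -/
theorem Stage.up_ybar {w : V} (hw : w ∈ W (k + 1)) (t : F) :
    Z t * nb π Sg Mg k w 0 * (Z t)⁻¹ * (nb π Sg Mg k w 0)⁻¹ ∈ D.PP := by
  by_cases h0 : w = 0
  · rw [h0, D.nb_zero, inv_one, mul_one, mul_one, mul_inv_cancel]
    exact one_mem _
  have hk := lt_of_mem_W hw h0
  have hE : (E (k + 1) : V) ∈ W (k + 1) := E_mem_W le_rfl
  set q := Z t * nb π Sg Mg k (E (k + 1) : V) 0 * (Z t)⁻¹ * (nb π Sg Mg k (E (k + 1) : V) 0)⁻¹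
  have hmem : q ∈ Mg k ⊔ Sg ⟨k, D.lt⟩ := by
    have h1 : N (E (k + 1) : V) 0 ∈ Mg k := by
      rw [nn, D.zz_zero, mul_one, ← one_smul F (E (k + 1) : V)]; exact D.YY_line_mem hk 1
    have h2 : nb π Sg Mg k (E (k + 1) : V) 0 ∈ Mg k ⊔ Sg ⟨k, D.lt⟩ :=
      mul_mem (mul_mem (Subgroup.mem_sup_right (D.wc_mem 1)) (Subgroup.mem_sup_left h1))
        (inv_mem (Subgroup.mem_sup_right (D.wc_mem 1)))
    have h3 : Z t ∈ Mg k ⊔ Sg ⟨k, D.lt⟩ := Subgroup.mem_sup_right (D.zz_mem t)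
    exact mul_mem (mul_mem (mul_mem h3 h2) (inv_mem h3)) (inv_mem h2)
  have hq : q ∈ D.PP := by
    refine D.two_mem hk hmem ?_
    set y := π (nb π Sg Mg k (E (k + 1) : V) 0)
    set x := app y⁻¹ (E k : V) with hxdef
    have hx0 : ω x (E k) = 0 := by
      rw [← f_app y, hxdef, app_inv', D.app_nb hE, T_zero, app_one, f_add_right, f_add_right,
        f_smul_right, f_smul_right, f_self, f_EE, zero_mul, mul_zero, add_zero, add_zero]
    simp only [q, map_mul, map_inv, D.map_zz, app_mul]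
    rw [← hxdef, T_inv, app_T _ _ x, hx0, mul_zero, zero_smul, add_zero, hxdef, app_inv', app_T,
      f_self, mul_zero, zero_smul, add_zero]
  obtain ⟨l, hl, hle, -⟩ := D.YY_spec hw h0
  have hcw := D.comm_w0 hl
  have hnb : nb π Sg Mg k w 0 = l * nb π Sg Mg k (E (k + 1) : V) 0 * l⁻¹ := by
    rw [nb, nb, ← hle, ← D.conj_nn hl hE]
    calc _ = (wc π Sg k 1 * l) * N (E (k + 1) : V) 0 * (wc π Sg k 1 * l)⁻¹ := by group
      _ = (l * wc π Sg k 1) * N (E (k + 1) : V) 0 * (l * wc π Sg k 1)⁻¹ := by rw [hcw.eq]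
      _ = _ := by group
  have hz : l * Z t * l⁻¹ = Z t := conj_eq_self' (D.zz_comm hl t).symm
  have : Z t * nb π Sg Mg k w 0 * (Z t)⁻¹ * (nb π Sg Mg k w 0)⁻¹ = l * q * l⁻¹ := by
    rw [hnb]; conv_lhs => rw [← hz]
    simp only [q]; group
  rw [this]
  exact mul_mem (mul_mem (D.K_le_PP hl) hq) (inv_mem (D.K_le_PP hl))

/-- The opposite radical permutes the cosets attached to the open set. -/
theorem Stage.smul_Cc_nb {w : V} (hw : w ∈ W (k + 1)) (t : F) {v : V} (hv : v ∈ W k)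
    (hc : v (.inr ⟨k, D.lt⟩) ≠ 0)
    (hc' : (app (π (nb π Sg Mg k w t)) v) (.inr ⟨k, D.lt⟩) ≠ 0) :
    nb π Sg Mg k w t • D.Cc v = D.Cc (app (π (nb π Sg Mg k w t)) v) := by
  have generic : ∀ (w : V) (t : F) (v : V), w ∈ W (k + 1) → v ∈ W k →
      v (.inr ⟨k, D.lt⟩) ≠ 0 → v (.inl ⟨k, D.lt⟩) ≠ 0 →
      (app (π (nb π Sg Mg k w t)) v) (.inr ⟨k, D.lt⟩) ≠ 0 →
      nb π Sg Mg k w t • D.Cc v = D.Cc (app (π (nb π Sg Mg k w t)) v) := by
    intro w t v hw hv hc ha hc'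
    set w0 := wc π Sg k 1
    have hw0 := PS_le_Fix (j := ⟨k, D.lt⟩) le_rfl (D.map_S (D.wc_mem 1))
    set v' := app (π w0)⁻¹ v
    have hv' : v' ∈ W k := Fix_app_W (inv_mem hw0) hv
    have hcv' : v' (.inr ⟨k, D.lt⟩) ≠ 0 := by
      rw [← f_E D.lt v', ← f_app (π w0), app_inv', D.wc_E one_ne_zero, one_smul, f_Fv D.lt v]
      exact neg_ne_zero.2 ha
    have hN := D.nn_mem_PP hw t
    have hcN : (app (π (N w t)) v') (.inr ⟨k, D.lt⟩) ≠ 0 := by rwa [D.cc_PP hN]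
    have hd : app (π w0) (app (π (N w t)) v') = app (π (nb π Sg Mg k w t)) v := by
      rw [nb, map_mul, map_mul, map_inv, app_mul, app_mul]
    have hback : w0 • D.Cc v' = D.Cc v := by
      rw [D.smul_Cc_S (D.wc_mem 1) hv' hcv' (by rwa [app_inv']), app_inv']
    calc nb π Sg Mg k w t • D.Cc v = w0 • N w t • D.Cc v' := by
          rw [nb, ← hback, ← mul_smul, inv_mul_cancel_right, mul_smul]
      _ = _ := by
          rw [D.smul_Cc_PP hN hv' hcv', D.smul_Cc_S (D.wc_mem 1)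
            (Fix_app_W (D.map_PP hN).1 hv') hcN (by rwa [hd]), hd]
  by_cases ha : v (.inl ⟨k, D.lt⟩) = 0
  swap
  · exact generic w t v hw hv hc ha hc'
  -- here the long root element fixes `v`
  have hlow : nb π Sg Mg k (0 : V) t ∈ Sg ⟨k, D.lt⟩ := by
    rw [nb, nn, D.YY_zero, one_mul]
    exact mul_mem (mul_mem (D.wc_mem 1) (D.zz_mem t)) (inv_mem (D.wc_mem 1))
  have hlv : app (π (nb π Sg Mg k (0 : V) t)) v = v := by
    rw [D.app_nb (Submodule.zero_mem _), app_T, f_Fv D.lt, ha, neg_zero, mul_zero, zero_smul,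
      add_zero, f_zero_right, smul_zero, zero_smul, add_zero, add_zero]
  have hsplit : nb π Sg Mg k w t = nb π Sg Mg k w 0 * nb π Sg Mg k (0 : V) t := by
    rw [D.nb_mul hw (Submodule.zero_mem _), add_zero, f_zero_left, zero_add, zero_add]
  rw [hsplit, map_mul, app_mul, hlv] at hc' ⊢
  rw [mul_smul, D.smul_Cc_S hlow hv hc (by rwa [hlv]), hlv]
  set yb := nb π Sg Mg k w 0 with hyb
  set q := Z 1 * yb * (Z 1)⁻¹ * yb⁻¹ with hqdef
  have hq : q ∈ D.PP := D.up_ybar hw 1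
  have hup : Z 1 ∈ D.PP := by
    have : N (0 : V) 1 ∈ D.PP := D.nn_mem_PP (Submodule.zero_mem _) 1
    rwa [nn, D.YY_zero, one_mul] at this
  have e : yb = (Z 1)⁻¹ * q * yb * Z 1 := by simp only [q]; group
  set u := app (π (Z 1)) v
  have hu : u ∈ W k := Fix_app_W (D.map_PP hup).1 hv
  have hcu : u (.inr ⟨k, D.lt⟩) ≠ 0 := by
    show (app (π (Z 1)) v) (.inr ⟨k, D.lt⟩) ≠ 0
    rwa [D.cc_PP hup]
  have hau : u (.inl ⟨k, D.lt⟩) ≠ 0 := by
    simp only [u, D.map_zz, app_T, f_E D.lt, one_mul, Pi.add_apply, Pi.smul_apply, smul_eq_mul,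
      ha, E_inl, if_pos, mul_one, zero_add]
    exact hc
  have hyu : (app (π yb) u) (.inr ⟨k, D.lt⟩) ≠ 0 := by
    have h2 : app (π q) (app (π yb) u) = app (π (Z 1)) (app (π yb) v) := by
      simp only [u, ← app_mul, ← map_mul, q]
      congr 2
      group
    rw [← D.cc_PP hq (app (π yb) u), h2, D.cc_PP hup]
    exact hc'
  have hyW : app (π yb) u ∈ W k := Fix_app_W (D.nb_Fix hw 0) hu
  conv_lhs => rw [e]
  rw [mul_smul, mul_smul, mul_smul, D.smul_Cc_PP hup hv hc, hyb, generic w 0 u hw hu hcu hau hyu,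
    ← hyb, D.smul_Cc_PP hq hyW hyu, D.smul_Cc_PP (inv_mem hup) (Fix_app_W (D.map_PP hq).1 hyW)
      (by rwa [D.cc_PP hq])]
  congr 1
  simp only [u, ← app_mul, ← map_mul, q]
  congr 2
  group

theorem Stage.exists_nb {v : V} (hv : v ∈ W k) (h0 : v ≠ 0) :
    ∃ w ∈ (W (k + 1) : Submodule F V), ∃ t : F,
      (app (π (nb π Sg Mg k w t)) v) (.inr ⟨k, D.lt⟩) ≠ 0 := by
  by_cases hc : v (.inr ⟨k, D.lt⟩) = 0
  swap
  · exact ⟨0, Submodule.zero_mem _, 0, by rwa [D.nb_zero, map_one, app_one]⟩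
  by_cases hd : dl k D.lt v = 0
  · refine ⟨0, Submodule.zero_mem _, 1, ?_⟩
    rw [D.cc_nb (Submodule.zero_mem _), hc, f_zero_right, add_zero, one_mul, zero_sub, neg_ne_zero]
    intro ha
    exact h0 (by rw [dl_spec D.lt v, hd, ha, hc, zero_smul, zero_smul, add_zero, add_zero])
  · obtain ⟨w, hw, hne⟩ := exists_f_ne (dl_mem hv) hd
    refine ⟨w, hw, 0, ?_⟩
    rw [D.cc_nb hw, hc, zero_mul, sub_zero, zero_add]
    rwa [dl_spec D.lt v, f_add_left, f_add_left, f_smul_left, f_smul_left,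
      f_E_W hw (Nat.lt_succ_self k), f_Fv_W hw (Nat.lt_succ_self k), mul_zero, mul_zero, zero_add,
      zero_add]

/-- The coset attached to an arbitrary nonzero vector. -/
noncomputable def Stage.Ch (v : V) : G ⧸ D.PP :=
  @dite _ (∃ p : V × F, p.1 ∈ W (k + 1) ∧
      (app (π (nb π Sg Mg k p.1 p.2)) v) (.inr ⟨k, D.lt⟩) ≠ 0) (Classical.propDecidable _)
    (fun h => (nb π Sg Mg k h.choose.1 h.choose.2)⁻¹ •
      D.Cc (app (π (nb π Sg Mg k h.choose.1 h.choose.2)) v))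
    (fun _ => D.Cc v)

theorem Stage.Ch_eq {v : V} (hv : v ∈ W k) {w : V} (hw : w ∈ W (k + 1)) {t : F}
    (h : (app (π (nb π Sg Mg k w t)) v) (.inr ⟨k, D.lt⟩) ≠ 0) :
    D.Ch v = (nb π Sg Mg k w t)⁻¹ • D.Cc (app (π (nb π Sg Mg k w t)) v) := by
  have hex : ∃ p : V × F, p.1 ∈ W (k + 1) ∧
      (app (π (nb π Sg Mg k p.1 p.2)) v) (.inr ⟨k, D.lt⟩) ≠ 0 := ⟨(w, t), hw, h⟩
  rw [Stage.Ch, dif_pos hex]
  obtain ⟨hw₁, h₁⟩ := hex.choose_spec
  set w₁ := hex.choose.1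
  set t₁ := hex.choose.2
  set n₁ := nb π Sg Mg k w₁ t₁
  set n₂ := nb π Sg Mg k w t
  obtain ⟨w', hw', t', he⟩ : ∃ w' ∈ (W (k + 1) : Submodule F V), ∃ t' : F,
      n₂ * n₁⁻¹ = nb π Sg Mg k w' t' :=
    ⟨_, Submodule.add_mem _ hw (Submodule.neg_mem _ hw₁), _,
      by simp only [n₁, n₂]; rw [D.nb_inv hw₁, D.nb_mul hw (Submodule.neg_mem _ hw₁)]⟩
  have hv₁ : app (π n₁) v ∈ W k := Fix_app_W (D.nb_Fix hw₁ t₁) hv
  have e : app (π (nb π Sg Mg k w' t')) (app (π n₁) v) = app (π n₂) v := by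
    rw [← he, ← app_mul, ← map_mul, inv_mul_cancel_right]
  have h2 := D.smul_Cc_nb hw' t' hv₁ h₁ (by rwa [e])
  rw [e] at h2
  rw [← h2, ← he, ← mul_smul]
  congr 1
  group

/-- The elements respecting the attached cosets. -/
def Stage.Eqv : Subgroup G where
  carrier := {g | π g ∈ Fix k ∧ ∀ v ∈ (W k : Submodule F V), v ≠ 0 → g • D.Ch v = D.Ch (app (π g) v)}
  one_mem' := ⟨by rw [map_one]; exact one_mem _, fun v _ _ => by rw [one_smul, map_one, app_one]⟩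
  mul_mem' := fun {a b} ha hb => ⟨by rw [map_mul]; exact mul_mem ha.1 hb.1, fun v hv h0 => by
    rw [mul_smul, hb.2 v hv h0, ha.2 _ (Fix_app_W hb.1 hv) (app_ne_zero _ h0), map_mul, app_mul]⟩
  inv_mem' := fun {a} ha => ⟨by rw [map_inv]; exact inv_mem ha.1, fun v hv h0 => by
    have h := ha.2 _ (Fix_app_W (inv_mem ha.1) hv) (app_ne_zero _ h0)
    rw [app_inv'] at h
    rw [map_inv, inv_smul_eq_iff]
    exact h.symm⟩

theorem Stage.nb_Eqv {w : V} (hw : w ∈ W (k + 1)) (t : F) : nb π Sg Mg k w t ∈ D.Eqv := by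
  refine ⟨D.nb_Fix hw t, fun v hv h0 => ?_⟩
  obtain ⟨w₁, hw₁, t₁, h⟩ := D.exists_nb (Fix_app_W (D.nb_Fix hw t) hv) (app_ne_zero _ h0)
  rw [D.Ch_eq (Fix_app_W (D.nb_Fix hw t) hv) hw₁ h]
  have e : app (π (nb π Sg Mg k w₁ t₁)) (app (π (nb π Sg Mg k w t)) v) =
      app (π (nb π Sg Mg k (w₁ + w) (ω w w₁ + (t₁ + t)))) v := by
    rw [← app_mul, ← map_mul, D.nb_mul hw₁ hw]
  rw [e] at h ⊢
  rw [D.Ch_eq hv (Submodule.add_mem _ hw₁ hw) h, ← mul_smul, ← D.nb_mul hw₁ hw]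
  congr 1
  group

theorem Stage.K_Eqv : K' ≤ D.Eqv := by
  intro l hl
  have hF : π l ∈ Fix k := Fix_anti (Nat.le_succ k) (D.map_mem hl)
  refine ⟨hF, fun v hv h0 => ?_⟩
  obtain ⟨w, hw, t, h⟩ := D.exists_nb hv h0
  have hlw := D.app_W hl hw
  have hnb : nb π Sg Mg k (app (π l) w) t = l * nb π Sg Mg k w t * l⁻¹ := by
    rw [nb, nb, ← D.conj_nn hl hw]
    calc _ = (wc π Sg k 1 * l) * N w t * (wc π Sg k 1 * l)⁻¹ := by group
      _ = (l * wc π Sg k 1) * N w t * (l * wc π Sg k 1)⁻¹ := by rw [(D.comm_w0 hl).eq]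
      _ = _ := by group
  have e : app (π (nb π Sg Mg k (app (π l) w) t)) (app (π l) v) =
      app (π l) (app (π (nb π Sg Mg k w t)) v) := by
    rw [hnb, ← app_mul, ← map_mul, inv_mul_cancel_right, map_mul, app_mul]
  have h' : (app (π (nb π Sg Mg k (app (π l) w) t)) (app (π l) v)) (.inr ⟨k, D.lt⟩) ≠ 0 := by
    rwa [e, D.cc_PP (D.K_le_PP hl)]
  rw [D.Ch_eq (Fix_app_W hF hv) hlw h', D.Ch_eq hv hw h, e,
    ← D.smul_Cc_PP (D.K_le_PP hl) (Fix_app_W (D.nb_Fix hw t) hv) h, ← mul_smul, ← mul_smul, hnb]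
  congr 1
  group

theorem Stage.zz_Eqv (s : F) : Z s ∈ D.Eqv := by
  have hup : Z s ∈ D.PP := by
    have : N (0 : V) s ∈ D.PP := D.nn_mem_PP (Submodule.zero_mem _) s
    rwa [nn, D.YY_zero, one_mul] at this
  refine ⟨(D.map_PP hup).1, fun v hv h0 => ?_⟩
  have hvs := Fix_app_W (D.map_PP hup).1 hv
  by_cases hc : v (.inr ⟨k, D.lt⟩) = 0
  swap
  · rw [D.Ch_eq hvs (Submodule.zero_mem _) (t := 0)
        (by rwa [D.nb_zero, map_one, app_one, D.cc_PP hup]),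
      D.Ch_eq hv (Submodule.zero_mem _) (t := 0) (by rwa [D.nb_zero, map_one, app_one]),
      D.nb_zero, inv_one, one_smul, one_smul, map_one, app_one, app_one]
    exact D.smul_Cc_PP hup hv hc
  have hfix : app (π (Z s)) v = v := by
    rw [D.map_zz, app_T, f_E D.lt, hc, mul_zero, zero_smul, add_zero]
  rw [hfix]
  obtain ⟨w, hw, t, h, hx⟩ : ∃ w ∈ (W (k + 1) : Submodule F V), ∃ t : F,
      (app (π (nb π Sg Mg k w t)) v) (.inr ⟨k, D.lt⟩) ≠ 0 ∧
      (nb π Sg Mg k w t * Z s * (nb π Sg Mg k w t)⁻¹ ∈ D.PP ∨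
        nb π Sg Mg k w t * Z s * (nb π Sg Mg k w t)⁻¹ ∈ Sg ⟨k, D.lt⟩) := by
    by_cases hd : dl k D.lt v = 0
    · refine ⟨0, Submodule.zero_mem _, 1, ?_, .inr ?_⟩
      · rw [D.cc_nb (Submodule.zero_mem _), hc, f_zero_right, add_zero, one_mul, zero_sub,
          neg_ne_zero]
        intro ha
        exact h0 (by rw [dl_spec D.lt v, hd, ha, hc, zero_smul, zero_smul, add_zero, add_zero])
      · have hl : nb π Sg Mg k (0 : V) 1 ∈ Sg ⟨k, D.lt⟩ := by
          rw [nb, nn, D.YY_zero, one_mul]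
          exact mul_mem (mul_mem (D.wc_mem 1) (D.zz_mem 1)) (inv_mem (D.wc_mem 1))
        exact mul_mem (mul_mem hl (D.zz_mem s)) (inv_mem hl)
    · obtain ⟨w, hw, hne⟩ := exists_f_ne (dl_mem hv) hd
      refine ⟨w, hw, 0, ?_, .inl ?_⟩
      · rw [D.cc_nb hw, hc, zero_mul, sub_zero, zero_add]
        rwa [dl_spec D.lt v, f_add_left, f_add_left, f_smul_left, f_smul_left,
          f_E_W hw (Nat.lt_succ_self k), f_Fv_W hw (Nat.lt_succ_self k), mul_zero, mul_zero,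
          zero_add, zero_add]
      · have h2 := mul_mem (inv_mem (D.up_ybar hw s)) hup
        have e : (Z s * nb π Sg Mg k w 0 * (Z s)⁻¹ * (nb π Sg Mg k w 0)⁻¹)⁻¹ * Z s =
            nb π Sg Mg k w 0 * Z s * (nb π Sg Mg k w 0)⁻¹ := by group
        rwa [e] at h2
  set n₁ := nb π Sg Mg k w t with hn₁
  have hv₁ : app (π n₁) v ∈ W k := Fix_app_W (D.nb_Fix hw t) hv
  have e : app (π (n₁ * Z s * n₁⁻¹)) (app (π n₁) v) = app (π n₁) v := by
    rw [← app_mul, ← map_mul, inv_mul_cancel_right, map_mul, app_mul, hfix]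
  have h2 : (n₁ * Z s * n₁⁻¹) • D.Cc (app (π n₁) v) = D.Cc (app (π n₁) v) := by
    rcases hx with hx | hx
    · rw [D.smul_Cc_PP hx hv₁ h, e]
    · rw [D.smul_Cc_S hx hv₁ h (by rwa [e]), e]
  rw [D.Ch_eq hv hw h, ← hn₁]
  conv_rhs => rw [← h2]
  rw [← mul_smul, ← mul_smul]
  congr 1
  group

theorem Stage.S_Eqv : Sg ⟨k, D.lt⟩ ≤ D.Eqv := by
  intro x hx
  set H := (D.Eqv ⊓ Sg ⟨k, D.lt⟩).map π
  have hE : ∀ t : F, T (E k : V) t ∈ H := fun t =>
    D.map_zz t ▸ Subgroup.mem_map_of_mem π ⟨D.zz_Eqv t, D.zz_mem t⟩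
  have hF : ∀ t : F, T (Fv k : V) t ∈ H := fun t => by
    have hm : nb π Sg Mg k (0 : V) t ∈ D.Eqv ⊓ Sg ⟨k, D.lt⟩ := by
      refine ⟨D.nb_Eqv (Submodule.zero_mem _) t, ?_⟩
      show nb π Sg Mg k (0 : V) t ∈ Sg ⟨k, D.lt⟩
      rw [nb, nn, D.YY_zero, one_mul]
      exact mul_mem (mul_mem (D.wc_mem 1) (D.zz_mem t)) (inv_mem (D.wc_mem 1))
    have e : π (nb π Sg Mg k (0 : V) t) = T (Fv k) t := by
      refine ext_app fun y => ?_
      rw [D.app_nb (Submodule.zero_mem _), f_zero_right, smul_zero, zero_smul, add_zero, add_zero]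
    exact e ▸ Subgroup.mem_map_of_mem π hm
  have hxE : app (π x) (E k : V) ≠ 0 := app_ne_zero _ (E_ne_zero D.lt)
  obtain ⟨a, c, hac, hne⟩ : ∃ a c : F, app (π x) (E k : V) = a • E k + c • Fv k ∧ (a ≠ 0 ∨ c ≠ 0) := by
    have hFix := PS_le_Fix (j := ⟨k, D.lt⟩) le_rfl (D.map_S hx)
    have hW := Fix_app_W hFix (E_mem_W (F := F) (n := n) (le_refl k))
    have hd : dl k D.lt (app (π x) (E k : V)) = 0 := by
      by_contra hne
      obtain ⟨y, hy, hy0⟩ := exists_f_ne (dl_mem hW) hne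
      refine hy0 ?_
      have h := f_app (π x) (E k) y
      rw [D.S_fix_W hx hy, dl_spec D.lt (app (π x) (E k : V)), f_add_left, f_add_left, f_smul_left,
        f_smul_left, f_E_W hy (Nat.lt_succ_self k), f_Fv_W hy (Nat.lt_succ_self k), mul_zero,
        mul_zero, zero_add, zero_add] at h
      exact h
    have he := dl_spec D.lt (app (π x) (E k : V))
    rw [hd, add_zero] at he
    refine ⟨_, _, he, ?_⟩
    by_contra hh
    push Not at hh
    exact hxE (by rw [he, hh.1, hh.2, zero_smul, zero_smul, add_zero])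
  obtain ⟨g, hg, hge, -⟩ := plane D.lt (H := H) hE hF hne
  obtain ⟨y, ⟨hyE, hyS⟩, rfl⟩ := Subgroup.mem_map.1 hg
  obtain ⟨t, ht⟩ := PS_stab (D.map_S (mul_mem (inv_mem hyS) hx))
    (by rw [map_mul, app_mul, hac, ← hge, map_inv, app_inv])
  have : x = y * Z t := by
    have := D.injS (mul_mem (inv_mem hyS) hx) (D.zz_mem t) (by rw [ht, D.map_zz])
    rw [← this, mul_inv_cancel_left]
  rw [this]
  exact mul_mem hyE (D.zz_Eqv t)

theorem Stage.PP_Eqv : D.PP ≤ D.Eqv := by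
  rintro _ ⟨v, hv, t, a, ha, rfl⟩
  refine mul_mem ?_ (D.K_Eqv ha)
  have h := D.S_Eqv (D.wc_mem 1)
  have e : N v t = (wc π Sg k 1)⁻¹ * nb π Sg Mg k v t * wc π Sg k 1 := by rw [nb]; group
  rw [e]
  exact mul_mem (mul_mem (inv_mem h) (D.nb_Eqv hv t)) h

theorem Stage.K_le_Eqv : K Sg Mg k ≤ D.Eqv := by
  rw [K, Subgroup.closure_le]
  rintro x (⟨j, hj, hx⟩ | ⟨i, hi, hin, hx⟩)
  · rcases hj.eq_or_lt with hj | hj
    · obtain rfl : j = ⟨k, D.lt⟩ := Fin.ext hj.symm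
      exact D.S_Eqv hx
    · exact D.K_Eqv (Sg_le_K (by omega) hx)
  · rcases hi.eq_or_lt with hi | hi
    · subst hi
      exact D.PP_Eqv (D.two_mem hin (Subgroup.mem_sup_left hx)
        ((D.slim.imM k hin ▸ Subgroup.mem_map_of_mem π hx : π x ∈ MS k).1 k))
    · exact D.K_Eqv (Mg_le_K (by omega) hin hx)

/-- One step of the induction. -/
theorem Stage.step : Set.InjOn π ((K Sg Mg k : Subgroup G) : Set G) := by
  have key : ∀ g ∈ K Sg Mg k, π g = 1 → g = 1 := by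
    intro g hg h1
    have hEv := (D.K_le_Eqv hg).2 _ (E_mem_W le_rfl) (E_ne_zero D.lt)
    rw [h1, app_one] at hEv
    have hbase : D.Ch (E k : V) = ((1 : G) : G ⧸ D.PP) := by
      set l := nb π Sg Mg k (0 : V) 1
      have hl : l ∈ Sg ⟨k, D.lt⟩ := by
        simp only [l, nb, nn, D.YY_zero, one_mul]
        exact mul_mem (mul_mem (D.wc_mem 1) (D.zz_mem 1)) (inv_mem (D.wc_mem 1))
      have hlE : app (π l) (E k : V) = E k - Fv k := by
        simp only [l, D.app_nb (Submodule.zero_mem _), app_T, f_EF _ _ D.lt, if_pos, one_mul,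
          neg_one_smul, f_zero_right, smul_zero, zero_smul, add_zero, sub_eq_add_neg]
      have hW : app (π l) (E k : V) ∈ W k :=
        Fix_app_W (D.nb_Fix (Submodule.zero_mem _) 1) (E_mem_W le_rfl)
      have hc : (app (π l) (E k : V)) (.inr ⟨k, D.lt⟩) ≠ 0 := by
        rw [hlE]; simp [E_inr, Fv_inr]
      rw [D.Ch_eq (E_mem_W le_rfl) (Submodule.zero_mem _) hc, Stage.Cc,
        MulAction.Quotient.smul_coe, smul_eq_mul, QuotientGroup.eq, mul_one]
      have hd : dl k D.lt (app (π l) (E k : V)) = 0 := by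
        rw [hlE, dl]; simp [E_inl, E_inr, Fv_inl, Fv_inr, sub_eq_add_neg]
      refine inv_mem (D.S_stab (mul_mem (inv_mem hl) (mul_mem (mul_mem ?_ (D.zz_mem _)) (D.wc_mem _))) ?_)
      · rw [hd, smul_zero, D.YY_zero]; exact one_mem _
      · rw [map_mul, app_mul, D.map_rep hW hc, map_inv, app_inv]
    rw [hbase, MulAction.Quotient.smul_coe, smul_eq_mul, mul_one, QuotientGroup.eq, mul_one] at hEv
    exact D.injPP (inv_mem_iff.1 hEv) (one_mem _) (by rw [h1, map_one])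
  intro x hx y hy hxy
  refine mul_inv_eq_one.1 (key _ (mul_mem hx (inv_mem hy)) ?_)
  rw [map_mul, map_inv, hxy, mul_inv_cancel]

omit D

/-- The completion of the slim amalgam is faithful. -/
theorem Slim.injective (hS : Slim π Sg Mg) : Set.InjOn π ((K Sg Mg 0 : Subgroup G) : Set G) := by
  suffices h : ∀ d k, n ≤ k + d → Set.InjOn π ((K Sg Mg k : Subgroup G) : Set G) from
    h n 0 (by omega)
  intro d
  induction d with
  | zero =>
    intro k hk
    have h0 : K Sg Mg k = ⊥ := by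
      rw [K, Subgroup.closure_eq_bot_iff]
      rintro x (⟨j, hj, -⟩ | ⟨i, hi, hin, -⟩)
      · exact absurd j.2 (by omega)
      · exact absurd hin (by omega)
    rw [h0]
    intro x hx y hy _
    rw [(Subgroup.mem_bot.1 hx : x = 1), (Subgroup.mem_bot.1 hy : y = 1)]
  | succ d ih =>
    intro k hk
    by_cases hkn : k < n
    · exact Stage.step ⟨hS, hkn, ih (k + 1) (by omega)⟩
    · exact ih k (by omega)

end CfsgLib.Classical.SympSlim
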