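import Cfsg.Agent.Lib.Classical.SympSlim.Basic

/-!
# The parabolic subgroup of the completion of the slim amalgam
-/

set_option autoImplicit false
set_option linter.unusedSectionVars false

namespace CfsgLib.Classical.SympSlim

open Matrix Cfsg
open CfsgLib.Classical.SympTrans
open CfsgLib.Classical.SympRegGen (E Fv E_inl E_inr Fv_inl Fv_inr f_E f_Fv f_EE f_FF f_FE f_EF
  T_inv T_comm conj_P plane)

variable {F : Type*} [Field F] {n : ℕ}

local notation "V" => (Fin n ⊕ Fin n → F)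
local notation "Sp" => Matrix.symplecticGroup (Fin n) F
local notation "ω" => sympForm n F

theorem PS_fix_W {k : ℕ} {hk : k < n} {g : Sp} (hg : g ∈ PS ⟨k, hk⟩) {v : V}
    (hv : v ∈ W (k + 1)) : app g v = v := by
  have hfix : ∀ i : Fin n, (i : ℕ) ≠ k → app g (E (i : ℕ) : V) = E i ∧ app g (Fv (i : ℕ) : V) = Fv i :=
    fun i hi => hg i (fun e => hi (congrArg Fin.val e))
  have hfix' : ∀ i : Fin n, (i : ℕ) ≠ k →
      app g⁻¹ (E (i : ℕ) : V) = E i ∧ app g⁻¹ (Fv (i : ℕ) : V) = Fv i :=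
    fun i hi => inv_mem hg i (fun e => hi (congrArg Fin.val e))
  have key : ∀ x : V, (∀ i : Fin n, (i : ℕ) ≠ k → x (.inl i) = 0 ∧ x (.inr i) = 0) →
      ω v x = 0 := fun x hx => by
    rw [f_apply]
    refine Finset.sum_eq_zero fun i _ => ?_
    by_cases hi : (i : ℕ) = k
    · rw [(hv i (by omega)).1, (hv i (by omega)).2]; ring
    · rw [(hx i hi).1, (hx i hi).2]; ring
  funext j
  rcases j with i | i
  · rw [← neg_inj, ← f_Fv i.2 (app g v), ← f_Fv i.2 v]
    by_cases hi : (i : ℕ) = k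
    · rw [show (Fv (i : ℕ) : V) = app g (app g⁻¹ (Fv (i : ℕ))) from (app_inv' g _).symm, f_app,
        app_inv', key _ (fun l hl => ?_), f_Fv i.2, (hv i (by omega)).1, neg_zero]
      constructor
      · rw [← neg_inj, ← f_Fv l.2 (app g⁻¹ (Fv (i : ℕ)))]
        conv_lhs => rw [← (hfix' l hl).2]
        rw [f_app, f_FF, neg_zero]
      · rw [← f_E l.2 (app g⁻¹ (Fv (i : ℕ)))]
        conv_lhs => rw [← (hfix' l hl).1]
        rw [f_app, f_FE _ _ l.2, if_neg (by omega)]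
    · conv_lhs => rw [← (hfix i hi).2, f_app]
  · rw [← f_E i.2 (app g v), ← f_E i.2 v]
    by_cases hi : (i : ℕ) = k
    · rw [show (E (i : ℕ) : V) = app g (app g⁻¹ (E (i : ℕ))) from (app_inv' g _).symm, f_app,
        app_inv', key _ (fun l hl => ?_), f_E i.2, (hv i (by omega)).2]
      constructor
      · rw [← neg_inj, ← f_Fv l.2 (app g⁻¹ (E (i : ℕ)))]
        conv_lhs => rw [← (hfix' l hl).2]
        rw [f_app, f_EF _ _ l.2, if_neg (by omega), neg_zero]
      · rw [← f_E l.2 (app g⁻¹ (E (i : ℕ)))]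
        conv_lhs => rw [← (hfix' l hl).1]
        rw [f_app, f_EE]
    · conv_lhs => rw [← (hfix i hi).1, f_app]

theorem comm_PS_Fix {k : ℕ} {hk : k < n} {g l : Sp} (hg : g ∈ PS ⟨k, hk⟩) (hl : l ∈ Fix (k + 1)) :
    Commute g l := by
  have h : gen ((W (k + 1) : Submodule F V) : Set V) ≤ Subgroup.centralizer {g} := by
    refine (Subgroup.closure_le _).2 ?_
    rintro _ ⟨v, hv, c, rfl⟩
    rw [SetLike.mem_coe, Subgroup.mem_centralizer_singleton_iff, eq_comm, ← mul_inv_eq_iff_eq_mul,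
      conj_T, PS_fix_W hg hv]
  exact (Subgroup.mem_centralizer_singleton_iff.1 (h (Fix_le_gen _ hl))).symm

/-- An element of `PS k` moving `E k` inside its plane. -/
theorem exists_plane {k : ℕ} (hk : k < n) {a c : F} (h : a ≠ 0 ∨ c ≠ 0) :
    ∃ g ∈ (PS ⟨k, hk⟩ : Subgroup Sp), app g (E k : V) = a • E k + c • Fv k := by
  obtain ⟨g, hg, he, -⟩ := plane hk (H := (PS ⟨k, hk⟩ : Subgroup Sp))
    (fun d => T_mem_PS hk (.inl rfl) d) (fun d => T_mem_PS hk (.inr rfl) d) h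
  exact ⟨g, hg, he⟩

theorem conj_eq_self {g x : Sp} (h : Commute g x) : g * x * g⁻¹ = x := by
  rw [h.eq, mul_inv_cancel_right]

theorem conj_eq_self' {G : Type*} [Group G] {g x : G} (h : Commute g x) : g * x * g⁻¹ = x := by
  rw [h.eq, mul_inv_cancel_right]

theorem commute_of_conj {g x : Sp} (h : g * x * g⁻¹ = x) : Commute g x :=
  mul_inv_eq_iff_eq_mul.1 h

variable {G : Type*} [Group G]

/-- The hypotheses on the completion: the small subgroups with their pairwise faithful maps. -/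
structure Slim (π : G →* Sp) (Sg : Fin n → Subgroup G) (Mg : ℕ → Subgroup G) : Prop where
  imS : ∀ j, (Sg j).map π = PS j
  imM : ∀ i, i + 1 < n → (Mg i).map π = MS i
  injSS : ∀ j l, Set.InjOn π ((Sg j ⊔ Sg l : Subgroup G) : Set G)
  injMM : ∀ i i', i + 1 < n → i' + 1 < n → Set.InjOn π ((Mg i ⊔ Mg i' : Subgroup G) : Set G)
  injMS : ∀ i j, i + 1 < n → Set.InjOn π ((Mg i ⊔ Sg j : Subgroup G) : Set G)
  big : ∃ a : F, a ≠ 0 ∧ a ≠ 1

/-- The generators with indices at least `k`. -/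
def Gn (Sg : Fin n → Subgroup G) (Mg : ℕ → Subgroup G) (k : ℕ) : Set G :=
  {x | (∃ j : Fin n, k ≤ (j : ℕ) ∧ x ∈ Sg j) ∨ ∃ i, k ≤ i ∧ i + 1 < n ∧ x ∈ Mg i}

/-- The subgroup generated by the amalgam above `k`. -/
def K (Sg : Fin n → Subgroup G) (Mg : ℕ → Subgroup G) (k : ℕ) : Subgroup G :=
  Subgroup.closure (Gn Sg Mg k)

/-- A chosen preimage inside a subgroup. -/
noncomputable def lift (π : G →* Sp) (A : Subgroup G) (g : Sp) : G :=
  @dite _ (∃ a ∈ A, π a = g) (Classical.propDecidable _) (fun h => h.choose) (fun _ => 1)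

theorem lift_mem {π : G →* Sp} {A : Subgroup G} {g : Sp} : lift π A g ∈ A := by
  classical
  unfold lift
  split_ifs with h
  · exact h.choose_spec.1
  · exact one_mem _

theorem map_lift {π : G →* Sp} {A : Subgroup G} {g : Sp} (h : g ∈ A.map π) :
    π (lift π A g) = g := by
  classical
  unfold lift
  rw [dif_pos (Subgroup.mem_map.1 h)]
  exact (Subgroup.mem_map.1 h).choose_spec.2

theorem commute_of_inj {π : G →* Sp} {A B : Subgroup G} (h : Set.InjOn π ((A ⊔ B : Subgroup G) : Set G))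
    {a b : G} (ha : a ∈ A) (hb : b ∈ B) (e : Commute (π a) (π b)) : Commute a b :=
  h (mul_mem (Subgroup.mem_sup_left ha) (Subgroup.mem_sup_right hb))
    (mul_mem (Subgroup.mem_sup_right hb) (Subgroup.mem_sup_left ha))
    (by rw [map_mul, map_mul]; exact e)

variable {π : G →* Matrix.symplecticGroup (Fin n) F} {Sg : Fin n → Subgroup G} {Mg : ℕ → Subgroup G}

theorem K_anti {j k : ℕ} (h : j ≤ k) : K Sg Mg k ≤ K Sg Mg j := by
  refine Subgroup.closure_mono ?_
  rintro x (⟨i, hi, hx⟩ | ⟨i, hi, hx⟩)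
  exacts [.inl ⟨i, h.trans hi, hx⟩, .inr ⟨i, h.trans hi, hx⟩]

theorem Sg_le_K {k : ℕ} {j : Fin n} (h : k ≤ (j : ℕ)) : Sg j ≤ K Sg Mg k :=
  fun _ hx => Subgroup.subset_closure (.inl ⟨j, h, hx⟩)

theorem Mg_le_K {k i : ℕ} (h : k ≤ i) (hi : i + 1 < n) : Mg i ≤ K Sg Mg k :=
  fun _ hx => Subgroup.subset_closure (.inr ⟨i, h, hi, hx⟩)

section Basic

variable (D : Slim π Sg Mg)
include D

theorem Slim.map_K_le (k : ℕ) : (K Sg Mg k).map π ≤ Fix k := by
  rw [K, Subgroup.map_le_iff_le_comap, Subgroup.closure_le]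
  rintro x (⟨j, hj, hx⟩ | ⟨i, hi, hin, hx⟩)
  · exact PS_le_Fix hj (D.imS j ▸ Subgroup.mem_map_of_mem π hx)
  · exact MS_le_Fix hi (D.imM i hin ▸ Subgroup.mem_map_of_mem π hx)

theorem Slim.eta_mem_map {k : ℕ} (hk : k < n) (h : Fix (k + 1) ≤ (K Sg Mg k).map π) {v : V}
    (hv : v ∈ W (k + 1)) : eta k v ∈ (K Sg Mg k).map π := by
  by_cases h0 : v = 0
  · rw [h0, eta_zero]; exact one_mem _
  have h1 := lt_of_mem_W hv h0
  obtain ⟨g, hg, hgv⟩ := exists_move (E_mem_W (le_refl (k + 1))) hv (E_ne_zero h1) h0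
  have hg' := gen_le_Fix _ hg
  have hy : eta k ((1 : F) • E (k + 1) : V) ∈ (K Sg Mg k).map π :=
    Subgroup.map_mono (Mg_le_K le_rfl h1) (by rw [D.imM k h1]; exact eta_mem_MS h1 1)
  rw [← hgv, ← conj_eta (hg' k (Nat.lt_succ_self k)).1, ← one_smul F (E (k + 1) : V)]
  exact mul_mem (mul_mem (h hg') hy) (inv_mem (h hg'))

theorem Slim.Fix_le_map (k : ℕ) : Fix k ≤ (K Sg Mg k).map π := by
  suffices h : ∀ d k, n ≤ k + d → Fix k ≤ (K Sg Mg k).map π from h n k (by omega)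
  intro d
  induction d with
  | zero => intro k hk g hg; rw [Fix_top (by omega) hg]; exact one_mem _
  | succ d ih =>
    intro k hk g hg
    by_cases hkn : n ≤ k
    · rw [Fix_top hkn hg]; exact one_mem _
    push Not at hkn
    set H := (K Sg Mg k).map π
    have hFix : Fix (k + 1) ≤ H :=
      (ih (k + 1) (by omega)).trans (Subgroup.map_mono (K_anti (Nat.le_succ k)))
    have hS : (PS ⟨k, hkn⟩ : Subgroup Sp) ≤ H :=
      D.imS ⟨k, hkn⟩ ▸ Subgroup.map_mono (Sg_le_K (Mg := Mg) (k := k) le_rfl)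
    have hpl : ∀ (a c : F) (δ : V), δ ∈ W (k + 1) → a ≠ 0 ∨ c ≠ 0 →
        ∃ s ∈ H, app s (E k : V) = a • E k + c • Fv k + δ := by
      intro a c δ hδ hac
      obtain ⟨g₁, hg₁, e₁⟩ := exists_plane (F := F) hkn hac
      obtain ⟨g₂, hg₂, e₂⟩ := exists_plane (F := F) hkn
        (Or.inr (one_ne_zero (α := F)) : (0 : F) ≠ 0 ∨ (1 : F) ≠ 0)
      rw [zero_smul, zero_add, one_smul] at e₂
      refine ⟨g₁ * g₂⁻¹ * eta k δ * g₂,
        mul_mem (mul_mem (mul_mem (hS hg₁) (inv_mem (hS hg₂))) (D.eta_mem_map hkn hFix hδ))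
          (hS hg₂), ?_⟩
      rw [app_mul, e₂, app_mul, eta_Fv hkn hδ, app_mul, app_add,
        PS_fix_W (inv_mem hg₂) hδ, app_add, PS_fix_W hg₁ hδ]
      conv_lhs => arg 1; arg 2; rw [← e₂]
      rw [app_inv, e₁]
    have hmove : ∀ v : V, v ∈ W k → v ≠ 0 → ∃ s ∈ H, app s (E k : V) = v := by
      intro v hv hv0
      obtain ⟨δ, hδ, hd⟩ := W_decomp hkn hv
      by_cases hac : v (.inl ⟨k, hkn⟩) ≠ 0 ∨ v (.inr ⟨k, hkn⟩) ≠ 0
      · rw [hd]; exact hpl _ _ δ hδ hac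
      push Not at hac
      rw [hac.1, hac.2, zero_smul, zero_smul, zero_add, zero_add] at hd
      have hδ0 : δ ≠ 0 := fun e => hv0 (hd.trans e)
      obtain ⟨z, hz, hδz⟩ := exists_f_ne hδ hδ0
      obtain ⟨s, hs, es⟩ := hpl (ω δ z) 0 δ hδ (.inl hδz)
      refine ⟨(eta k z)⁻¹ * s, mul_mem (inv_mem (D.eta_mem_map hkn hFix hz)) hs, ?_⟩
      have e : app (eta k z) δ = ω δ z • E k + (0 : F) • Fv k + δ := by
        rw [app_eta (f_E_W hz (Nat.lt_succ_self k)),
          show ω δ (E k) = 0 by rw [f_swap (E k) δ, f_E_W hδ (Nat.lt_succ_self k), neg_zero],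
          zero_smul, zero_smul, add_zero, zero_add, add_comm]
      rw [app_mul, es, ← e, app_inv, hd]
    obtain ⟨s, hs, hse⟩ := hmove _ (Fix_app_W hg (E_mem_W le_rfl))
      (app_ne_zero g (E_ne_zero hkn))
    have hsFix : s ∈ Fix k := D.map_K_le k hs
    have he : app (s⁻¹ * g) (E k : V) = E k := by rw [app_mul, ← hse, app_inv]
    obtain ⟨v, hv, t, -, hl⟩ := stab_decomp hkn (mul_mem (inv_mem hsFix) hg) he
    have h2 := mul_mem (mul_mem hs (mul_mem (D.eta_mem_map hkn hFix hv)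
      (hS (T_mem_PS hkn (.inl rfl) t)))) (hFix hl)
    simpa [mul_assoc] using h2

theorem Slim.map_K (k : ℕ) : (K Sg Mg k).map π = Fix k :=
  le_antisymm (D.map_K_le k) (D.Fix_le_map k)

theorem Slim.comm_S {k : ℕ} (hk : k < n) {a b : G} (ha : a ∈ Sg ⟨k, hk⟩)
    (hb : b ∈ K Sg Mg (k + 1)) : Commute a b := by
  suffices h : K Sg Mg (k + 1) ≤ Subgroup.centralizer {a} from
    (Subgroup.mem_centralizer_singleton_iff.1 (h hb)).symm
  rw [K, Subgroup.closure_le]
  intro x hx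
  have hP : π a ∈ PS ⟨k, hk⟩ := D.imS _ ▸ Subgroup.mem_map_of_mem π ha
  have hF : π x ∈ Fix (k + 1) :=
    D.map_K_le _ (Subgroup.mem_map_of_mem π (Subgroup.subset_closure hx))
  rw [SetLike.mem_coe, Subgroup.mem_centralizer_singleton_iff]
  rcases hx with ⟨j, -, hx⟩ | ⟨i, -, hi, hx⟩
  · exact (commute_of_inj (D.injSS j ⟨k, hk⟩) hx ha (comm_PS_Fix hP hF).symm).eq
  · exact (commute_of_inj (D.injMS i ⟨k, hk⟩ hi) hx ha (comm_PS_Fix hP hF).symm).eq

end Basic

/-- The root element `E k`. -/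
noncomputable def zz (π : G →* Sp) (Sg : Fin n → Subgroup G) (k : ℕ) (t : F) : G :=
  if h : k < n then lift π (Sg ⟨k, h⟩) (T (E k) t) else 1

/-- The lift of the adjacent short root element. -/
noncomputable def y1 (π : G →* Sp) (Mg : ℕ → Subgroup G) (k : ℕ) : G :=
  lift π (Mg k) (eta k (E (k + 1)))

/-- The short root element with centre `v`. -/
noncomputable def YY (π : G →* Sp) (Sg : Fin n → Subgroup G) (Mg : ℕ → Subgroup G) (k : ℕ)
    (v : V) : G :=
  @ite _ (v = 0) (Classical.propDecidable _) 1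
    (@dite _ (∃ l ∈ K Sg Mg (k + 1), app (π l) (E (k + 1) : V) = v) (Classical.propDecidable _)
      (fun h => h.choose * y1 π Mg k * h.choose⁻¹) (fun _ => 1))

/-- The statement of one step of the induction: the completion above `k` is faithful. -/
structure Stage (π : G →* Sp) (Sg : Fin n → Subgroup G) (Mg : ℕ → Subgroup G) (k : ℕ) : Prop where
  slim : Slim π Sg Mg
  lt : k < n
  inj : Set.InjOn π ((K Sg Mg (k + 1) : Subgroup G) : Set G)

section Stage

variable {k : ℕ} (D : Stage π Sg Mg k)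
include D

theorem Stage.zz_mem (t : F) : zz π Sg k t ∈ Sg ⟨k, D.lt⟩ := by
  rw [zz, dif_pos D.lt]; exact lift_mem

theorem Stage.map_zz (t : F) : π (zz π Sg k t) = T (E k) t := by
  rw [zz, dif_pos D.lt]
  exact map_lift (by rw [D.slim.imS]; exact T_mem_PS D.lt (.inl rfl) t)

theorem Stage.injS : Set.InjOn π ((Sg ⟨k, D.lt⟩ : Subgroup G) : Set G) :=
  (D.slim.injSS ⟨k, D.lt⟩ ⟨k, D.lt⟩).mono fun _ hx => Subgroup.mem_sup_left hx

theorem Stage.zz_mul (s t : F) : zz π Sg k s * zz π Sg k t = zz π Sg k (s + t) :=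
  D.injS (mul_mem (D.zz_mem s) (D.zz_mem t)) (D.zz_mem _)
    (by rw [map_mul, D.map_zz, D.map_zz, D.map_zz, T_mul])

theorem Stage.zz_zero : zz π Sg k 0 = 1 := by
  have := D.zz_mul 0 0
  rwa [add_zero, mul_eq_left] at this

theorem Stage.zz_inv (t : F) : (zz π Sg k t)⁻¹ = zz π Sg k (-t) :=
  inv_eq_of_mul_eq_one_right (by rw [D.zz_mul, add_neg_cancel, D.zz_zero])

theorem Stage.zz_comm {a : G} (ha : a ∈ K Sg Mg (k + 1)) (t : F) : Commute (zz π Sg k t) a :=
  D.slim.comm_S D.lt (D.zz_mem t) ha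

theorem Stage.map_y1 (hk : k + 1 < n) : π (y1 π Mg k) = eta k (E (k + 1)) := by
  refine map_lift ?_
  rw [D.slim.imM k hk, ← one_smul F (E (k + 1) : V)]
  exact eta_mem_MS hk 1

theorem Stage.zz_mem_M (hk : k + 1 < n) (t : F) : zz π Sg k t ∈ Mg k := by
  have hmem : T (E k : V) t ∈ (Mg k).map π := by
    rw [D.slim.imM k hk]; exact T_E_mem_MS (.inl rfl) D.lt t
  have : lift π (Mg k) (T (E k : V) t) = zz π Sg k t :=
    D.slim.injMS k ⟨k, D.lt⟩ hk (Subgroup.mem_sup_left lift_mem) (Subgroup.mem_sup_right (D.zz_mem t))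
      (by rw [map_lift hmem, D.map_zz])
  exact this ▸ lift_mem

theorem Stage.map_mem {a : G} (ha : a ∈ K Sg Mg (k + 1)) : π a ∈ Fix (k + 1) :=
  D.slim.map_K_le _ (Subgroup.mem_map_of_mem π ha)

theorem Stage.app_E {a : G} (ha : a ∈ K Sg Mg (k + 1)) : app (π a) (E k : V) = E k :=
  (D.map_mem ha k (Nat.lt_succ_self k)).1

theorem Stage.exists_lift {g : Sp} (hg : g ∈ Fix (k + 1)) : ∃ a ∈ K Sg Mg (k + 1), π a = g :=
  Subgroup.mem_map.1 (D.slim.Fix_le_map _ hg)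

theorem Stage.comm_gen (hk : k + 1 < n) {x : G} (hx : x ∈ Gn Sg Mg (k + 1))
    (he : app (π x) (E (k + 1) : V) = E (k + 1)) : Commute (y1 π Mg k) x := by
  have e : Commute (π (y1 π Mg k)) (π x) := by
    rw [D.map_y1 hk]
    refine (commute_of_conj ?_).symm
    rw [conj_eta (D.app_E (Subgroup.subset_closure hx)), he]
  rcases hx with ⟨j, -, hx⟩ | ⟨i, -, hi, hx⟩
  · exact commute_of_inj (D.slim.injMS k j hk) lift_mem hx e
  · exact commute_of_inj (D.slim.injMM k i hk hi) lift_mem hx e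

theorem Stage.comm_y1 (hk : k + 1 < n) {a : G} (ha : a ∈ K Sg Mg (k + 1))
    (he : app (π a) (E (k + 1) : V) = E (k + 1)) : Commute (y1 π Mg k) a := by
  set C := K Sg Mg (k + 1) ⊓ Subgroup.centralizer {y1 π Mg k}
  have hC : ∀ x ∈ Gn Sg Mg (k + 1), app (π x) (E (k + 1) : V) = E (k + 1) → π x ∈ C.map π :=
    fun x hx e => Subgroup.mem_map_of_mem π ⟨Subgroup.subset_closure hx,
      Subgroup.mem_centralizer_singleton_iff.2 (D.comm_gen hk hx e).symm.eq⟩
  have hFix2 : Fix (k + 2) ≤ C.map π := by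
    have hle : K Sg Mg (k + 2) ≤ C := by
      rw [K, Subgroup.closure_le]
      intro x hx
      have hx1 : x ∈ Gn Sg Mg (k + 1) := by
        rcases hx with ⟨j, hj, hx⟩ | ⟨i, hi, hx⟩
        exacts [.inl ⟨j, by omega, hx⟩, .inr ⟨i, by omega, hx⟩]
      exact ⟨Subgroup.subset_closure hx1, Subgroup.mem_centralizer_singleton_iff.2 (D.comm_gen hk hx1
        (D.slim.map_K_le _ (Subgroup.mem_map_of_mem π (Subgroup.subset_closure hx)) (k + 1)
          (Nat.lt_succ_self _)).1).symm.eq⟩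
    exact (D.slim.Fix_le_map _).trans (Subgroup.map_mono hle)
  have hWP : gen (WP (k + 1) : Set V) ≤ C.map π := by
    refine (Subgroup.closure_le _).2 ?_
    rintro _ ⟨v, ⟨hv, hvp⟩, c, rfl⟩
    obtain ⟨δ, hδ, hd⟩ := W_decomp hk hv
    rw [show v (.inr ⟨k + 1, hk⟩) = 0 by rw [← f_E hk v, f_swap (E (k + 1)) v, hvp, neg_zero],
      zero_smul, add_zero] at hd
    set α := v (.inl ⟨k + 1, hk⟩)
    have hline : T (α • E (k + 1) : V) c ∈ C.map π := by
      rw [T_smul]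
      have hm : T (E (k + 1) : V) (α * α * c) ∈ (Sg ⟨k + 1, hk⟩).map π := by
        rw [D.slim.imS]; exact T_mem_PS hk (.inl rfl) _
      obtain ⟨x, hx, hxe⟩ := Subgroup.mem_map.1 hm
      exact hxe ▸ hC x (.inl ⟨⟨k + 1, hk⟩, le_refl _, hx⟩)
        (by rw [hxe, app_T, f_self, mul_zero, zero_smul, add_zero])
    by_cases hδ0 : δ = 0
    · rw [hd, hδ0, add_zero]; exact hline
    obtain ⟨z, hz, hδz⟩ := exists_f_ne hδ hδ0
    set w := (α * (ω δ z)⁻¹) • z
    have hw : w ∈ W (k + 1 + 1) := Submodule.smul_mem _ _ hz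
    have e : app (eta (k + 1) w) δ = v := by
      rw [app_eta (f_E_W hw (Nat.lt_succ_self _)),
        show ω δ (E (k + 1)) = 0 by rw [f_swap (E (k + 1)) δ, f_E_W hδ (Nat.lt_succ_self _), neg_zero],
        f_smul_right, mul_assoc, inv_mul_cancel₀ hδz, mul_one, zero_smul, zero_add, hd, add_comm]
    have hη : eta (k + 1) w ∈ C.map π := by
      by_cases hw0 : w = 0
      · rw [hw0, eta_zero]; exact one_mem _
      have h2 := lt_of_mem_W hw hw0
      obtain ⟨g, hg, hgw⟩ := exists_move (E_mem_W (le_refl (k + 1 + 1))) hw (E_ne_zero h2) hw0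
      have hg' := gen_le_Fix _ hg
      have hm : eta (k + 1) (E (k + 2) : V) ∈ (Mg (k + 1)).map π := by
        rw [D.slim.imM _ h2, ← one_smul F (E (k + 2) : V)]; exact eta_mem_MS h2 1
      obtain ⟨x, hx, hxe⟩ := Subgroup.mem_map.1 hm
      have hy := hC x (.inr ⟨k + 1, le_refl _, h2, hx⟩)
        (by rw [hxe]; exact eta_E (E_mem_W (le_refl _)))
      rw [hxe] at hy
      rw [← hgw, ← conj_eta (hg' (k + 1) (Nat.lt_succ_self _)).1]
      exact mul_mem (mul_mem (hFix2 hg') hy) (inv_mem (hFix2 hg'))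
    rw [← e, ← conj_T]
    exact mul_mem (mul_mem hη (hFix2 (T_mem_Fix hδ c))) (inv_mem hη)
  obtain ⟨a', ⟨ha', hc⟩, hae⟩ := Subgroup.mem_map.1 (hWP (stab_gen hk (D.map_mem ha) he))
  rw [← D.inj ha' ha hae]
  exact (Subgroup.mem_centralizer_singleton_iff.1 hc).symm

theorem Stage.YY_spec {v : V} (hv : v ∈ W (k + 1)) (h0 : v ≠ 0) :
    ∃ l ∈ K Sg Mg (k + 1), app (π l) (E (k + 1) : V) = v ∧
      YY π Sg Mg k v = l * y1 π Mg k * l⁻¹ := by
  obtain ⟨g, hg, hgv⟩ := exists_move (E_mem_W (le_refl (k + 1))) hv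
    (E_ne_zero (lt_of_mem_W hv h0)) h0
  obtain ⟨a, ha, hae⟩ := D.exists_lift (gen_le_Fix _ hg)
  have hex : ∃ l ∈ K Sg Mg (k + 1), app (π l) (E (k + 1) : V) = v := ⟨a, ha, by rw [hae, hgv]⟩
  exact ⟨hex.choose, hex.choose_spec.1, hex.choose_spec.2, by rw [YY, if_neg h0, dif_pos hex]⟩

theorem Stage.YY_zero : YY π Sg Mg k (0 : V) = 1 := by rw [YY, if_pos rfl]

end Stage

end CfsgLib.Classical.SympSlim
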