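import Cfsg.Agent.Lib.Classical.SympSlim.Heis

/-!
# The Heisenberg relations and the parabolic subgroup
-/

set_option autoImplicit false
set_option linter.unusedSectionVars false

namespace CfsgLib.Classical.SympSlim

open Matrix Cfsg
open CfsgLib.Classical.SympTrans
open CfsgLib.Classical.SympRegGen (E Fv E_inl E_inr Fv_inl Fv_inr f_E f_Fv f_EE f_FF f_FE f_EF
  T_inv T_comm conj_P plane)

variable {F : Type*} [Field F] {n : ℕ} {G : Type*} [Group G]
variable {π : G →* Matrix.symplecticGroup (Fin n) F} {Sg : Fin n → Subgroup G} {Mg : ℕ → Subgroup G}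
variable {k : ℕ}

local notation "V" => (Fin n ⊕ Fin n → F)
local notation "Sp" => Matrix.symplecticGroup (Fin n) F
local notation "ω" => sympForm n F
local notation "Y" => YY π Sg Mg k
local notation "Z" => zz π Sg k
local notation "K'" => K Sg Mg (k + 1)

/-- The plane of the pair `k + 1`. -/
def InPlane (k : ℕ) (v : Fin n ⊕ Fin n → F) : Prop :=
  ∃ a c : F, v = a • E (k + 1) + c • Fv (k + 1)

/-- The Heisenberg relation for two centres. -/
def Rule (π : G →* Matrix.symplecticGroup (Fin n) F) (Sg : Fin n → Subgroup G)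
    (Mg : ℕ → Subgroup G) (k : ℕ) (v w : Fin n ⊕ Fin n → F) : Prop :=
  YY π Sg Mg k v * YY π Sg Mg k w = YY π Sg Mg k (v + w) * zz π Sg k (sympForm n F w v)

variable (D : Stage π Sg Mg k)
include D

theorem Stage.YY_eq {a : G} (ha : a ∈ K') {v : V} (hv : v ∈ W (k + 1)) (h0 : v ≠ 0)
    (he : app (π a) (E (k + 1) : V) = v) : Y v = a * y1 π Mg k * a⁻¹ := by
  obtain ⟨l, hl, hle, hlY⟩ := D.YY_spec hv h0
  have hc := D.comm_y1 (lt_of_mem_W hv h0) (mul_mem (inv_mem ha) hl) (by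
    rw [map_mul, map_inv, app_mul, hle, ← he, app_inv])
  rw [hlY]
  calc l * y1 π Mg k * l⁻¹ = a * ((a⁻¹ * l) * y1 π Mg k * (a⁻¹ * l)⁻¹) * a⁻¹ := by group
    _ = _ := by rw [← hc.eq, mul_inv_cancel_right]

theorem Stage.map_YY {v : V} (hv : v ∈ W (k + 1)) : π (Y v) = eta k v := by
  by_cases h0 : v = 0
  · rw [h0, D.YY_zero, map_one, eta_zero]
  obtain ⟨l, hl, hle, hlY⟩ := D.YY_spec hv h0
  rw [hlY, map_mul, map_mul, map_inv, D.map_y1 (lt_of_mem_W hv h0), conj_eta (D.app_E hl), hle]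

theorem Stage.app_W {a : G} (ha : a ∈ K') {v : V} (hv : v ∈ W (k + 1)) :
    app (π a) v ∈ W (k + 1) := Fix_app_W (D.map_mem ha) hv

theorem Stage.conj_YY {a : G} (ha : a ∈ K') {v : V} (hv : v ∈ W (k + 1)) :
    a * Y v * a⁻¹ = Y (app (π a) v) := by
  by_cases h0 : v = 0
  · rw [h0, app_zero', D.YY_zero, mul_one, mul_inv_cancel]
  obtain ⟨l, hl, hle, hlY⟩ := D.YY_spec hv h0
  rw [D.YY_eq (mul_mem ha hl) (D.app_W ha hv) (app_ne_zero _ h0)
    (by rw [map_mul, app_mul, hle]), hlY]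
  group

theorem Stage.zz_YY {v : V} (hv : v ∈ W (k + 1)) (t : F) : Commute (Z t) (Y v) := by
  by_cases h0 : v = 0
  · rw [h0, D.YY_zero]; exact Commute.one_right _
  obtain ⟨l, hl, -, hlY⟩ := D.YY_spec hv h0
  have hk := lt_of_mem_W hv h0
  have h1 : Commute (Z t) (y1 π Mg k) := by
    refine commute_of_inj (D.slim.injMM k k hk hk) (D.zz_mem_M hk t) lift_mem ?_
    rw [D.map_y1 hk, D.map_zz]
    refine commute_of_conj ?_
    rw [conj_eta (by rw [app_T, f_self, mul_zero, zero_smul, add_zero]), app_T, f_EE, mul_zero,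
      zero_smul, add_zero]
  rw [hlY]
  exact ((D.zz_comm hl t).mul_right h1).mul_right (D.zz_comm hl t).inv_right

theorem Stage.plane_mem_W {v : V} (h : InPlane k v) : v ∈ W (k + 1) := by
  obtain ⟨a, c, rfl⟩ := h
  exact Submodule.add_mem _ (Submodule.smul_mem _ _ (E_mem_W le_rfl))
    (Submodule.smul_mem _ _ (Fv_mem_W le_rfl))

theorem Stage.plane_YY_mem (hk : k + 1 < n) {v : V} (h : InPlane k v) :
    Y v ∈ Mg k ⊔ Sg ⟨k + 1, hk⟩ := by
  by_cases h0 : v = 0
  · rw [h0, D.YY_zero]; exact one_mem _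
  obtain ⟨a, c, hac⟩ := id h
  have hac0 : a ≠ 0 ∨ c ≠ 0 := by
    by_contra hh
    push Not at hh
    exact h0 (by rw [hac, hh.1, hh.2, zero_smul, zero_smul, add_zero])
  obtain ⟨g, hg, he⟩ := exists_plane (F := F) hk hac0
  rw [← D.slim.imS ⟨k + 1, hk⟩] at hg
  obtain ⟨x, hx, rfl⟩ := Subgroup.mem_map.1 hg
  rw [D.YY_eq (Sg_le_K (j := ⟨k + 1, hk⟩) le_rfl hx) (D.plane_mem_W h) h0 (he.trans hac.symm)]
  exact mul_mem (mul_mem (Subgroup.mem_sup_right hx) (Subgroup.mem_sup_left lift_mem))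
    (inv_mem (Subgroup.mem_sup_right hx))

theorem Stage.rule_plane (hk : k + 1 < n) {v w : V} (hv : InPlane k v) (hw : InPlane k w) :
    Rule π Sg Mg k v w := by
  have hvw : InPlane k (v + w) := by
    obtain ⟨a, c, rfl⟩ := hv
    obtain ⟨b, d, rfl⟩ := hw
    exact ⟨a + b, c + d, by rw [add_smul, add_smul]; abel⟩
  refine D.slim.injMS k ⟨k + 1, hk⟩ hk (mul_mem (D.plane_YY_mem hk hv) (D.plane_YY_mem hk hw))
    (mul_mem (D.plane_YY_mem hk hvw) (Subgroup.mem_sup_left (D.zz_mem_M hk _))) ?_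
  rw [map_mul, map_mul, D.map_YY (D.plane_mem_W hv), D.map_YY (D.plane_mem_W hw),
    D.map_YY (D.plane_mem_W hvw), D.map_zz,
    eta_mul D.lt (D.plane_mem_W hv) (D.plane_mem_W hw)]

theorem Stage.rule_conj {a : G} (ha : a ∈ K') {v w : V} (hv : v ∈ W (k + 1)) (hw : w ∈ W (k + 1))
    (h : Rule π Sg Mg k v w) : Rule π Sg Mg k (app (π a) v) (app (π a) w) := by
  unfold Rule at *
  rw [← D.conj_YY ha hv, ← D.conj_YY ha hw, ← app_add, ← D.conj_YY ha (Submodule.add_mem _ hv hw),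
    f_app]
  calc a * Y v * a⁻¹ * (a * Y w * a⁻¹) = a * (Y v * Y w) * a⁻¹ := by group
    _ = a * Y (v + w) * (Z (ω w v) * a⁻¹) := by rw [h]; group
    _ = _ := by rw [((D.zz_comm ha (ω w v)).inv_right).eq]; group

theorem Stage.rule_of_moved {g : Sp} (hg : g ∈ Fix (k + 1)) {v w v₀ w₀ : V} (hv₀ : v₀ ∈ W (k + 1))
    (hw₀ : w₀ ∈ W (k + 1)) (ev : app g v₀ = v) (ew : app g w₀ = w) (h : Rule π Sg Mg k v₀ w₀) :
    Rule π Sg Mg k v w := by
  obtain ⟨a, ha, rfl⟩ := D.exists_lift hg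
  exact ev ▸ ew ▸ D.rule_conj ha hv₀ hw₀ h

theorem Stage.inPlane_E (a : F) : InPlane k (a • E (k + 1) : V) := ⟨a, 0, by rw [zero_smul, add_zero]⟩

/-- Additivity on two orthogonal basis vectors: this is where a third field element is needed. -/
theorem Stage.rule_iso (hk2 : k + 2 < n) : Rule π Sg Mg k (E (k + 1) : V) (E (k + 2)) := by
  have hk : k + 1 < n := by omega
  set e : V := E (k + 1) with he
  set b : V := Fv (k + 1) with hb'
  set q : V := E (k + 2) with hq'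
  have heW : e ∈ W (k + 1) := E_mem_W le_rfl
  have hbW : b ∈ W (k + 1) := Fv_mem_W le_rfl
  have hqW : q ∈ W (k + 1) := E_mem_W (by omega)
  have hqW2 : q ∈ W (k + 1 + 1) := E_mem_W le_rfl
  have hbp : InPlane k b := ⟨0, 1, by rw [zero_smul, zero_add, one_smul]⟩
  have hnbp : InPlane k (-b) := ⟨0, -1, by rw [zero_smul, zero_add, neg_one_smul]⟩
  set A := Y (-b) * Y (b + q) with hA
  -- the quotient `Y (α e)⁻¹ Y (α e + q)` does not depend on `α`
  have step : ∀ α : F, α ≠ 0 → Y (α • e + q) = Y (α • e) * A := by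
    intro α hα
    have haW : α • e ∈ W (k + 1) := Submodule.smul_mem _ _ heW
    have hap : InPlane k (α • e : V) := D.inPlane_E α
    obtain ⟨g, hg, hge⟩ := D.exists_lift (eta_mem_Fix (k := k + 1) hqW)
    have g1 : app (π g) (α • e) = α • e := by rw [hge, app_smul, he, eta_E hqW2]
    have g2 : app (π g) b = b + q := by rw [hge, hb', eta_Fv hk hqW2]
    obtain ⟨L, hL, hLe⟩ := D.exists_lift (T_mem_Fix hbW α⁻¹)
    have L1 : app (π L) (α • e + b + q) = α • e + q := by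
      rw [hLe, app_T, f_add_left, f_add_left, f_smul_left, he, hb', hq', f_EF _ _ hk, if_pos rfl,
        f_FF, f_EF _ _ hk, if_neg (by omega), add_zero, add_zero, mul_neg_one, mul_neg,
        inv_mul_cancel₀ hα, neg_one_smul]
      abel
    have L2 : app (π L) (α • e) = α • e + -b := by
      rw [hLe, app_T, f_smul_left, he, hb', f_EF _ _ hk, if_pos rfl, mul_neg_one, mul_neg,
        inv_mul_cancel₀ hα, neg_one_smul]
    have L3 : app (π L) (b + q) = b + q := by
      rw [hLe, app_T, f_add_left, hb', hq', f_FF, f_EF _ _ hk, if_neg (by omega), add_zero,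
        mul_zero, zero_smul, add_zero]
    have e1 := D.rule_conj hg haW hbW (D.rule_plane hk hap hbp)
    rw [g1, g2] at e1
    have e2 := D.rule_conj hL haW (Submodule.add_mem _ hbW hqW) e1
    rw [L2, L3] at e2
    have e3 := D.rule_plane hk hap hnbp
    unfold Rule at e2 e3
    have hsum : α • e + -b + (b + q) = α • e + q := by abel
    rw [hsum] at e2
    have hform : ω (b + q) (α • e + -b) = ω b (α • e) := by
      rw [← L2, ← L3, f_app, f_add_left, f_smul_right, f_smul_right, he, hq', f_EE, mul_zero,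
        add_zero]
    rw [hform] at e2
    have hform' : ω (-b) (α • e) = -ω b (α • e) := by
      rw [show (-b : V) = (-1 : F) • b from (neg_one_smul F b).symm, f_smul_left, neg_one_mul]
    rw [hform'] at e3
    calc Y (α • e + q) = Y (α • e + -b) * Y (b + q) * (Z (ω b (α • e)))⁻¹ := by
          rw [e2, mul_inv_cancel_right]
      _ = Y (α • e + -b) * Z (-ω b (α • e)) * Y (b + q) := by
          rw [D.zz_inv, mul_assoc, mul_assoc, (D.zz_YY (Submodule.add_mem _ hbW hqW) _).eq]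
      _ = _ := by rw [← e3, hA, mul_assoc]
  obtain ⟨a, ha0, ha1⟩ := D.slim.big
  obtain ⟨κ, hκ, hκe⟩ := D.exists_lift
    (eta_mem_Fix (k := k + 1) (v := (-1 : F) • (Fv (k + 2) : V))
      (Submodule.smul_mem _ _ (Fv_mem_W (by omega))))
  have hw2 : ((-1 : F) • (Fv (k + 2) : V)) ∈ W (k + 1 + 1) :=
    Submodule.smul_mem _ _ (Fv_mem_W le_rfl)
  have k1 : app (π κ) e = e := by rw [hκe, he, eta_E hw2]
  have k2 : app (π κ) q = e + q := by
    rw [hκe, app_eta (f_E_W hw2 (Nat.lt_succ_self _)), he, hq', f_EE, zero_smul, zero_add,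
      f_smul_right, f_EF _ _ hk2, if_pos rfl, neg_one_mul, neg_neg, one_smul, add_comm]
  set B := κ * A * κ⁻¹ with hB
  have stepB : ∀ l : F, l ≠ 0 → Y ((l + 1) • e + q) = Y (l • e) * B := by
    intro l hl
    have h := congrArg (fun x => κ * x * κ⁻¹) (step l hl)
    simp only [conj_mul.symm] at h
    rw [D.conj_YY hκ (Submodule.add_mem _ (Submodule.smul_mem _ _ heW) hqW),
      D.conj_YY hκ (Submodule.smul_mem _ _ heW), app_add, app_smul, k1, k2] at h
    rw [hB, ← h]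
    congr 1
    rw [add_smul, one_smul, add_assoc]
  have hee : ∀ s t : F, Y (s • e) * Y (t • e) = Y ((s + t) • e) := fun s t => by
    have h := D.rule_plane hk (D.inPlane_E s) (D.inPlane_E t)
    unfold Rule at h
    rwa [← he, f_smul_left, f_smul_right, f_self, mul_zero, mul_zero, D.zz_zero, mul_one,
      ← add_smul] at h
  have hBA : B = Y e * A := by
    have h := stepB (-a) (neg_ne_zero.2 ha0)
    have hne : -a + 1 ≠ 0 := fun h' => ha1 (neg_add_eq_zero.1 h')
    rw [step _ hne, ← hee (-a) 1, one_smul, mul_assoc] at h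
    exact (mul_left_cancel h).symm
  have hq : Y q = A := by
    have h := stepB (-1) (neg_ne_zero.2 one_ne_zero)
    rw [neg_add_cancel, zero_smul, zero_add, hBA, ← mul_assoc] at h
    conv at h => rhs; arg 1; arg 2; rw [← one_smul F e]
    rwa [hee, neg_add_cancel, zero_smul, D.YY_zero, one_mul] at h
  unfold Rule
  rw [show ω q e = 0 from f_EE _ _, D.zz_zero, mul_one, hq]
  have := step 1 one_ne_zero
  rwa [one_smul, eq_comm] at this

theorem Stage.rule {v w : V} (hv : v ∈ W (k + 1)) (hw : w ∈ W (k + 1)) : Rule π Sg Mg k v w := by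
  by_cases hv0 : v = 0
  · subst hv0
    rw [Rule, D.YY_zero, one_mul, zero_add, f_zero_right, D.zz_zero, mul_one]
  have hk := lt_of_mem_W hv hv0
  by_cases h : ω w v = 0
  · obtain ⟨g, hg, hgv⟩ := exists_move (E_mem_W (le_refl (k + 1))) hv (E_ne_zero hk) hv0
    have hg' := gen_le_Fix _ hg
    set w₀ := app g⁻¹ w with hw₀'
    have hw₀ : w₀ ∈ W (k + 1) := Fix_app_W (inv_mem hg') hw
    have hew : app g w₀ = w := app_inv' g w
    have h0 : ω (E (k + 1)) w₀ = 0 := by
      rw [← f_app g, hew, hgv, f_swap w v, h, neg_zero]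
    refine D.rule_of_moved hg' (E_mem_W le_rfl) hw₀ hgv hew ?_
    by_cases hd : ∃ a : F, w₀ = a • E (k + 1)
    · obtain ⟨a, ha⟩ := hd
      rw [ha]
      exact D.rule_plane hk ⟨1, 0, by rw [one_smul, zero_smul, add_zero]⟩ (D.inPlane_E a)
    push Not at hd
    obtain ⟨hk2, s, hs, hse, hsw⟩ := stab_move hk hw₀ h0 hd
    exact D.rule_of_moved hs (E_mem_W le_rfl) (E_mem_W (by omega)) hse hsw (D.rule_iso hk2)
  · set c := ω w v
    obtain ⟨g, hg, hgu, hgv⟩ := exists_move_pair (k := k + 1) (Fv_mem_W (F := F) (n := n) le_rfl)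
      (E_mem_W (F := F) (n := n) le_rfl) (Submodule.smul_mem _ c⁻¹ hw) hv
      (by rw [f_FE _ _ hk, if_pos rfl]) (by rw [f_smul_left]; exact inv_mul_cancel₀ h)
    refine D.rule_of_moved (gen_le_Fix _ hg) (E_mem_W le_rfl)
      (Submodule.smul_mem _ c (Fv_mem_W le_rfl)) hgv (by rw [app_smul, hgu, smul_smul,
        mul_inv_cancel₀ h, one_smul]) ?_
    exact D.rule_plane hk ⟨1, 0, by rw [one_smul, zero_smul, add_zero]⟩
      ⟨0, c, by rw [zero_smul, zero_add]⟩

/-- The elements of the unipotent radical. -/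
noncomputable def nn (π : G →* Matrix.symplecticGroup (Fin n) F) (Sg : Fin n → Subgroup G)
    (Mg : ℕ → Subgroup G) (k : ℕ) (v : Fin n ⊕ Fin n → F) (t : F) : G :=
  YY π Sg Mg k v * zz π Sg k t

theorem Stage.nn_mul {v w : V} (hv : v ∈ W (k + 1)) (hw : w ∈ W (k + 1)) (s t : F) :
    nn π Sg Mg k v s * nn π Sg Mg k w t = nn π Sg Mg k (v + w) (ω w v + (s + t)) := by
  unfold nn
  rw [← D.zz_mul, ← D.zz_mul, ← mul_assoc (Y (v + w)), ← D.rule hv hw, mul_assoc (Y v),
    ← mul_assoc (Z s), (D.zz_YY hw s).eq]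
  group

theorem Stage.nn_zero : nn π Sg Mg k (0 : V) 0 = 1 := by
  rw [nn, D.YY_zero, D.zz_zero, one_mul]

theorem Stage.nn_inv {v : V} (hv : v ∈ W (k + 1)) (t : F) :
    (nn π Sg Mg k v t)⁻¹ = nn π Sg Mg k (-v) (-t) := by
  refine inv_eq_of_mul_eq_one_right ?_
  rw [D.nn_mul hv (Submodule.neg_mem _ hv), add_neg_cancel, add_neg_cancel, add_zero,
    show (-v : V) = (-1 : F) • v from (neg_one_smul F v).symm, f_smul_left, f_self, mul_zero,
    D.nn_zero]

theorem Stage.conj_nn {a : G} (ha : a ∈ K') {v : V} (hv : v ∈ W (k + 1)) (t : F) :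
    a * nn π Sg Mg k v t * a⁻¹ = nn π Sg Mg k (app (π a) v) t := by
  rw [nn, nn, ← D.conj_YY ha hv]
  calc a * (Y v * Z t) * a⁻¹ = a * Y v * a⁻¹ * (a * Z t * a⁻¹) := by group
    _ = _ := by rw [conj_eq_self' (D.zz_comm ha t).symm]

theorem Stage.map_nn {v : V} (hv : v ∈ W (k + 1)) (t : F) :
    π (nn π Sg Mg k v t) = eta k v * T (E k) t := by
  rw [nn, map_mul, D.map_YY hv, D.map_zz]

/-- The lifted stabiliser of `E k`. -/
def Stage.PP : Subgroup G where
  carrier := {x | ∃ v ∈ (W (k + 1) : Submodule F V), ∃ t : F, ∃ a ∈ K',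
    x = nn π Sg Mg k v t * a}
  one_mem' := ⟨0, Submodule.zero_mem _, 0, 1, one_mem _, by rw [D.nn_zero, one_mul]⟩
  mul_mem' := by
    rintro _ _ ⟨v, hv, t, a, ha, rfl⟩ ⟨w, hw, s, b, hb, rfl⟩
    refine ⟨v + app (π a) w, Submodule.add_mem _ hv (D.app_W ha hw), ω (app (π a) w) v + (t + s),
      a * b, mul_mem ha hb, ?_⟩
    rw [← D.nn_mul hv (D.app_W ha hw), ← D.conj_nn ha hw]
    group
  inv_mem' := by
    rintro _ ⟨v, hv, t, a, ha, rfl⟩
    refine ⟨app (π a⁻¹) (-v), D.app_W (inv_mem ha) (Submodule.neg_mem _ hv), -t, a⁻¹, inv_mem ha, ?_⟩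
    rw [← D.conj_nn (inv_mem ha) (Submodule.neg_mem _ hv), ← D.nn_inv hv]
    group

theorem Stage.K_le_PP : K' ≤ D.PP := fun a ha =>
  ⟨0, Submodule.zero_mem _, 0, a, ha, by rw [D.nn_zero, one_mul]⟩

theorem Stage.nn_mem_PP {v : V} (hv : v ∈ W (k + 1)) (t : F) : nn π Sg Mg k v t ∈ D.PP :=
  ⟨v, hv, t, 1, one_mem _, (mul_one _).symm⟩

theorem Stage.map_PP {x : G} (hx : x ∈ D.PP) : π x ∈ Fix k ∧ app (π x) (E k : V) = E k := by
  obtain ⟨v, hv, t, a, ha, rfl⟩ := hx
  rw [map_mul, D.map_nn hv]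
  refine ⟨mul_mem (mul_mem (eta_mem_Fix (W_mono (Nat.le_succ k) hv))
    (T_mem_Fix (E_mem_W le_rfl) _)) (Fix_anti (Nat.le_succ k) (D.map_mem ha)), ?_⟩
  rw [app_mul, D.app_E ha, app_mul, app_T, f_self, mul_zero, zero_smul, add_zero, eta_E hv]

theorem Stage.injPP : Set.InjOn π (D.PP : Set G) := by
  have key : ∀ x ∈ D.PP, π x = 1 → x = 1 := by
    intro x hx h1
    obtain ⟨v, hv, t, a, ha, rfl⟩ := hx
    have hF : app (π a) (Fv k : V) = Fv k := (D.map_mem ha k (Nat.lt_succ_self k)).2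
    have h := congrArg (fun g => app g (Fv k : V)) h1
    simp only [map_mul, D.map_nn hv, app_mul, hF, app_one] at h
    rw [app_T, f_FE _ _ D.lt, if_pos rfl, mul_one, app_add, app_smul, eta_Fv D.lt hv, eta_E hv,
      add_assoc, add_eq_left] at h
    have ht : t = 0 := by
      have := congrFun h (.inl ⟨k, D.lt⟩)
      simpa [E_inl, (hv ⟨k, D.lt⟩ (Nat.lt_succ_self k)).1] using this
    rw [ht, zero_smul, add_zero] at h
    rw [h, ht, D.nn_zero, one_mul] at h1 ⊢
    exact D.inj ha (one_mem _) (by rw [h1, map_one])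
  intro x hx y hy hxy
  refine mul_inv_eq_one.1 (key _ (mul_mem hx (inv_mem hy)) ?_)
  rw [map_mul, map_inv, hxy, mul_inv_cancel]

theorem Stage.exists_PP {g : Sp} (hg : g ∈ Fix k) (he : app g (E k : V) = E k) :
    ∃ x ∈ D.PP, π x = g := by
  obtain ⟨v, hv, t, -, hl⟩ := stab_decomp D.lt hg he
  obtain ⟨a, ha, hae⟩ := D.exists_lift hl
  exact ⟨nn π Sg Mg k v t * a, mul_mem (D.nn_mem_PP hv t) (D.K_le_PP ha),
    by rw [map_mul, D.map_nn hv, hae, mul_inv_cancel_left]⟩

end CfsgLib.Classical.SympSlim
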